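import Cfsg.Agent.Lib.ChevCover.Steinberg
import Cfsg.Agent.Lib.ChevCover.UniversalInstance
import Cfsg.Agent.Lib.SchurCover.Perfect
import Cfsg.Prelude.Def_KGroupFacts

/-!
Schur multipliers of Steinberg's group and of the Chevalley group over a finite field, given that
central extensions of the Chevalley group receive Steinberg's group.
-/

set_option autoImplicit false

namespace CfsgLib.ChevMult

open Cfsg.Lie CfsgLib.ChevStr CfsgLib.ChevCover
open scoped MatrixGroups commutatorElement

universe u v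

variable {D : ChevalleyDatum} {F : Type u} [Field F]

/-- Steinberg's group maps to every finite central extension of the Chevalley group. -/
def LiftsExt (C : ChevCore D F) : Prop :=
  ∀ (E : Type u) [Group E] [Finite E] (π : E →* ↥(D.group F)), Function.Surjective π →
    π.ker ≤ Subgroup.center E → ∃ τ : D.SteinbergGroup F →* E, π.comp τ = groupHom C

/-- Commuting images of `h̄_p`, as a homomorphism on the torus parameters. -/
theorem exists_torusLift (C : ChevCore D F) (hadj : Cover.HasNeighbours D) :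
    ∃ φ : (Fin D.rank → Fˣ) →* D.SteinbergGroup F,
      (∀ i x, φ (Pi.mulSingle i x) = (steinberg C).H (C.pRoot i) (x : F)) ∧
      (groupHom C).ker ≤ φ.range ∧ (steinberg C).θ.comp φ = C.R.torus := by
  classical
  set G := steinberg C with hG
  let χ : Fin D.rank → Fˣ →* D.SteinbergGroup F := fun i =>
    { toFun := fun t => G.H (C.pRoot i) (t : F)
      map_one' := G.H_one _
      map_mul' := fun t u => steinberg_H_mul C _ t.ne_zero u.ne_zero }
  have hcomm : Pairwise fun i j => ∀ x y, Commute (χ i x) (χ j y) := by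
    intro i j _ x y
    obtain ⟨a, ha, hc⟩ := G.conj_H hadj (G.hbar_le_mono (G.H_mem_hbar i x.ne_zero))
      (G.nice_H hadj i x.ne_zero) (C.pRoot j)
    have h1 := hc (y : F)
    rw [Equiv.Perm.one_apply, steinberg_H_mul C _ ha y.ne_zero] at h1
    have hcyc : G.H (C.pRoot j) a * G.H (C.pRoot j) (y : F) =
        G.H (C.pRoot j) (y : F) * G.H (C.pRoot j) a := by
      rw [← steinberg_H_mul C _ ha y.ne_zero, ← steinberg_H_mul C _ y.ne_zero ha, mul_comm]
    rw [hcyc, mul_inv_cancel_right] at h1
    exact mul_inv_eq_iff_eq_mul.1 h1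
  let φ : (Fin D.rank → Fˣ) →* D.SteinbergGroup F := MonoidHom.noncommPiCoprod χ hcomm
  have hφ : ∀ i x, φ (Pi.mulSingle i x) = G.H (C.pRoot i) (x : F) :=
    MonoidHom.noncommPiCoprod_mulSingle χ
  refine ⟨φ, hφ, ?_, ?_⟩
  · rw [ker_groupHom_eq]
    refine (G.ker_le_hbar hadj).trans ((Subgroup.closure_le _).2 ?_)
    rintro x ⟨i, t, ht, rfl⟩
    exact ⟨Pi.mulSingle i (Units.mk0 t ht), hφ i _⟩
  · refine MonoidHom.pi_ext fun i x => ?_
    rw [MonoidHom.comp_apply, hφ, G.θ_H]
    exact C.hGL_simple i x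

theorem finite_steinberg [Finite F] (C : ChevCore D F) (hadj : Cover.HasNeighbours D) :
    Finite (D.SteinbergGroup F) := by
  obtain ⟨φ, -, hle, -⟩ := exists_torusLift C hadj
  have : Finite φ.range := Finite.of_surjective φ.rangeRestrict φ.rangeRestrict_surjective
  have : Finite (groupHom C).ker := Finite.of_injective _ (Subgroup.inclusion_injective hle)
  have : Finite ↥(D.group F) := inferInstance
  have : Finite (D.SteinbergGroup F ⧸ (groupHom C).ker) :=
    Finite.of_injective _ (QuotientGroup.kerLift_injective (groupHom C))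
  exact Finite.of_subgroup_quotient (groupHom C).ker

section Perfect

variable {Γ Q : Type*} [Group Γ] [Group Q]

theorem commutator_eq_top_of_stem {σ : Γ →* Q} (hσ : Cfsg.IsStemExtension σ)
    (hQ : commutator Q = ⊤) : commutator Γ = ⊤ := by
  rw [eq_top_iff]
  intro g _
  have h1 : σ g ∈ (commutator Γ).map σ := by
    rw [CfsgLib.SchurCover.map_commutator_eq σ hσ.1, hQ]
    exact Subgroup.mem_top _
  obtain ⟨c, hc, he⟩ := h1
  have h2 : c⁻¹ * g ∈ σ.ker := by rw [MonoidHom.mem_ker, map_mul, map_inv, he, inv_mul_cancel]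
  simpa using mul_mem hc (hσ.2.2 h2)

theorem top_le_of_central {H : Subgroup Γ} {f : Γ →* Q} (hΓ : commutator Γ = ⊤)
    (hc : f.ker ≤ Subgroup.center Γ) (hH : ∀ g, ∃ h ∈ H, f h = f g) : H = ⊤ := by
  rw [eq_top_iff, ← hΓ, commutator_def, Subgroup.commutator_le]
  intro a _ b _
  obtain ⟨x, hx, hxe⟩ := hH a
  obtain ⟨y, hy, hye⟩ := hH b
  have h1 : ⁅a, b⁆ = ⁅x, y⁆ :=
    CfsgLib.SchurCover.commutator_congr_central
      (hc (by rw [MonoidHom.mem_ker, map_mul, map_inv, hxe, inv_mul_cancel]))
      (hc (by rw [MonoidHom.mem_ker, map_mul, map_inv, hye, inv_mul_cancel]))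
  rw [h1, commutatorElement_def]
  exact mul_mem (mul_mem (mul_mem hx hy) (inv_mem hx)) (inv_mem hy)

end Perfect

variable [Finite F] (C : ChevCore D F)

/-- The Schur multiplier of the Chevalley group is the centre of Steinberg's group. -/
theorem hasSchurMultiplier_group (hadj : Cover.HasNeighbours D)
    (hperf : commutator (D.SteinbergGroup F) = ⊤) (hlift : LiftsExt C)
    {A : Type v} [CommGroup A] (e : Subgroup.center (D.SteinbergGroup F) ≃* A) :
    Cfsg.HasSchurMultiplier ↥(D.group F) A := by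
  have := finite_steinberg C hadj
  have hker := ker_groupHom_eq_center C hadj
  have hsurj := groupHom_surjective C
  have hperfQ : commutator ↥(D.group F) = ⊤ := by
    rw [← CfsgLib.SchurCover.map_commutator_eq _ hsurj, hperf,
      Subgroup.map_top_of_surjective _ hsurj]
  refine ⟨⟨D.SteinbergGroup F, inferInstance, inferInstance, groupHom C,
    ⟨hsurj, hker.le, by rw [hperf]; exact le_top⟩,
    ⟨(MulEquiv.subgroupCongr hker).trans e⟩⟩, fun Γ _ _ σ hσ => ?_⟩
  obtain ⟨τ, hτ⟩ := hlift Γ σ hσ.1 hσ.2.1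
  have hΓ := commutator_eq_top_of_stem hσ hperfQ
  have hrange : τ.range = ⊤ := top_le_of_central hΓ hσ.2.1 fun g => by
    obtain ⟨y, hy⟩ := hsurj (σ g)
    exact ⟨τ y, ⟨y, rfl⟩, (DFunLike.congr_fun hτ y).trans hy⟩
  have hmem : ∀ a : A, τ (e.symm a : D.SteinbergGroup F) ∈ σ.ker := fun a => by
    rw [MonoidHom.mem_ker, ← MonoidHom.comp_apply, hτ, ← MonoidHom.mem_ker, hker]
    exact (e.symm a).2
  refine ⟨((τ.comp ((Subgroup.center _).subtype.comp e.symm.toMonoidHom))).codRestrict σ.ker hmem,
    fun z => ?_⟩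
  obtain ⟨y, hy⟩ : (z : Γ) ∈ τ.range := by rw [hrange]; exact Subgroup.mem_top _
  have hyk : y ∈ Subgroup.center (D.SteinbergGroup F) := by
    rw [← hker, MonoidHom.mem_ker, ← hτ, MonoidHom.comp_apply, hy]
    exact z.2
  exact ⟨e ⟨y, hyk⟩, Subtype.ext (by simpa using hy)⟩

/-- Steinberg's group has trivial Schur multiplier. -/
theorem hasCyclicSchurMultiplier_steinberg (hadj : Cover.HasNeighbours D)
    (hperf : commutator (D.SteinbergGroup F) = ⊤) (hlift : LiftsExt C) :
    Cfsg.HasCyclicSchurMultiplier (D.SteinbergGroup F) 1 := by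
  have := finite_steinberg C hadj
  refine CfsgLib.SchurCover.hasCyclicSchurMultiplier_one_of_stem _ fun Γ _ _ σ hσ => ?_
  have hΓ := commutator_eq_top_of_stem hσ hperf
  set π := (groupHom C).comp σ with hπ
  have hker := ker_groupHom_eq_center C hadj
  have hzero : ∀ a b : Γ, σ a ∈ Subgroup.center _ → a * b * a⁻¹ * b⁻¹ ∈ Subgroup.center Γ := by
    intro a b ha
    refine hσ.2.1 ?_
    rw [MonoidHom.mem_ker, map_mul, map_mul, map_mul, map_inv, map_inv,
      ← Subgroup.mem_center_iff.1 ha (σ b)]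
    group
  have hπc : π.ker ≤ Subgroup.center Γ := by
    intro x hx
    rw [hπ, MonoidHom.mem_ker, MonoidHom.comp_apply, ← MonoidHom.mem_ker, hker] at hx
    let f : Γ →* ↥(Subgroup.center Γ) :=
      { toFun := fun g => ⟨x * g * x⁻¹ * g⁻¹, hzero x g hx⟩
        map_one' := Subtype.ext (by simp)
        map_mul' := fun g h => Subtype.ext (by
          show x * (g * h) * x⁻¹ * (g * h)⁻¹ = x * g * x⁻¹ * g⁻¹ * (x * h * x⁻¹ * h⁻¹)
          calc x * (g * h) * x⁻¹ * (g * h)⁻¹
              = x * g * x⁻¹ * (x * h * x⁻¹ * h⁻¹) * g⁻¹ := by group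
            _ = _ := by
              rw [mul_assoc _ (x * h * x⁻¹ * h⁻¹), ← Subgroup.mem_center_iff.1 (hzero x h hx) g⁻¹,
                ← mul_assoc]) }
    have hle : commutator Γ ≤ f.ker := by
      rw [commutator_def, Subgroup.commutator_le]
      intro a _ b _
      rw [MonoidHom.mem_ker, map_commutatorElement, commutatorElement_eq_one_iff_mul_comm]
      exact Subtype.ext (Subgroup.mem_center_iff.1 (f b).2 _)
    rw [hΓ] at hle
    rw [Subgroup.mem_center_iff]
    intro g
    have := congrArg Subtype.val (MonoidHom.mem_ker.1 (hle (Subgroup.mem_top g)))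
    change x * g * x⁻¹ * g⁻¹ = 1 at this
    rw [mul_inv_eq_one, mul_inv_eq_iff_eq_mul] at this
    exact this.symm
  have hπs : Function.Surjective π := (groupHom_surjective C).comp hσ.1
  obtain ⟨τ, hτ⟩ := hlift Γ π hπs hπc
  have hid : σ.comp τ = MonoidHom.id (D.SteinbergGroup F) :=
    CfsgLib.SchurCover.hom_ext_of_perfect ((Group.isPerfect_def).2 hperf)
      (ξ := groupHom C) hker.le _ _ (by rw [← MonoidHom.comp_assoc, ← hπ, hτ, MonoidHom.comp_id])
  have hrange : τ.range = ⊤ := top_le_of_central hΓ hπc fun g => by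
    obtain ⟨y, hy⟩ := groupHom_surjective C (π g)
    exact ⟨τ y, ⟨y, rfl⟩, (DFunLike.congr_fun hτ y).trans hy⟩
  refine (Subgroup.eq_bot_iff_forall _).2 fun x hx => ?_
  obtain ⟨y, rfl⟩ : x ∈ τ.range := by rw [hrange]; exact Subgroup.mem_top _
  rw [MonoidHom.mem_ker, ← MonoidHom.comp_apply, hid, MonoidHom.id_apply] at hx
  rw [hx, map_one]

theorem perfect_of_equiv (e : D.SteinbergCover F ≃* D.SteinbergGroup F)
    (h : commutator (D.SteinbergCover F) = ⊤) : commutator (D.SteinbergGroup F) = ⊤ := by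
  rw [← CfsgLib.SchurCover.map_commutator_eq e.toMonoidHom e.surjective, h,
    Subgroup.map_top_of_surjective _ e.surjective]

/-- Splitting of central extensions of the presented group gives the lifting property. -/
theorem liftsExt_of_equiv (e : D.SteinbergCover F ≃* D.SteinbergGroup F)
    (hsplit : ∀ (G₁ E : Type u) [Group G₁] [Group E] (π : E →* G₁), Function.Surjective π →
      π.ker ≤ Subgroup.center E → ∀ σ : D.SteinbergCover F →* G₁,
      ∃ τ : D.SteinbergCover F →* E, π.comp τ = σ) : LiftsExt C := by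
  intro E _ _ π hπ hc
  obtain ⟨τ, hτ⟩ := hsplit _ _ π hπ hc ((groupHom C).comp e.toMonoidHom)
  refine ⟨τ.comp e.symm.toMonoidHom, MonoidHom.ext fun x => ?_⟩
  have := DFunLike.congr_fun hτ (e.symm x)
  simpa using this

/-- Fields with more than four elements. -/
theorem liftsExt_of_large (hadj : Cover.HasNeighbours D) (h5 : 4 < Nat.card F)
    (hsep : sepCheck D = true) (hself : selfCheck D = true)
    (hperf : commutator (D.SteinbergCover F) = ⊤)
    (e : D.SteinbergCover F ≃* D.SteinbergGroup F) : LiftsExt C := by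
  refine liftsExt_of_equiv C e fun G₁ E _ _ π hπ hc σ =>
    (lift_unique C hadj ?_ hsep hself hperf π hπ hc σ).exists
  cases nonempty_fintype F
  exact ⟨Finset.univ, by rwa [Finset.card_univ, ← Nat.card_eq_fintype_card]⟩

end CfsgLib.ChevMult
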