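import Cfsg.Agent.Lib.ChevMult.CentralExt
import Cfsg.Agent.Lib.ChevMult.General

/-!
Schur multipliers of central quotients of perfect groups whose central extensions split.
-/

set_option autoImplicit false

namespace CfsgLib.ChevMult

open scoped commutatorElement

universe u v

/-- Every finite central extension of `Γ` has a section. -/
def SplitsAll (Γ : Type u) [Group Γ] : Prop :=
  ∀ (E : Type u) [Group E] [Finite E] (P : CExt E Γ),
    ∃ τ : Γ →* E, P.p.comp τ = MonoidHom.id Γ

/-- The multiplier of a central quotient is the kernel. -/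
theorem hasSchurMultiplier_of_split {Γ Q : Type u} [Group Γ] [Group Q] [Finite Γ] (q : Γ →* Q)
    (hq : Function.Surjective q) (hc : q.ker ≤ Subgroup.center Γ) (hperf : commutator Γ = ⊤)
    (hsplit : SplitsAll Γ) {A : Type v} [CommGroup A] (e : q.ker ≃* A) :
    Cfsg.HasSchurMultiplier Q A := by
  have hperfQ : commutator Q = ⊤ := by
    rw [← CfsgLib.SchurCover.map_commutator_eq _ hq, hperf, Subgroup.map_top_of_surjective _ hq]
  refine ⟨⟨Γ, inferInstance, inferInstance, q, ⟨hq, hc, by rw [hperf]; exact le_top⟩, ⟨e⟩⟩,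
    fun E _ _ σ hσ => ?_⟩
  have : Finite ↥(CfsgLib.SchurCover.fibre q σ) := Finite.of_injective _ Subtype.val_injective
  obtain ⟨τ, hτ⟩ := hsplit _ (⟨CfsgLib.SchurCover.fibreFst q σ,
    CfsgLib.SchurCover.fibreFst_surjective q hσ.1,
    CfsgLib.SchurCover.ker_fibreFst_le_center q hσ.2.1⟩ : CExt _ Γ)
  set t : Γ →* E := (CfsgLib.SchurCover.fibreSnd q σ).comp τ with ht
  have hst : ∀ g, σ (t g) = q g := fun g => by
    rw [ht, MonoidHom.comp_apply, ← CfsgLib.SchurCover.fibre_rel]
    exact congrArg q (DFunLike.congr_fun hτ g)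
  have hE := commutator_eq_top_of_stem hσ hperfQ
  have hrange : t.range = ⊤ := top_le_of_central hE hσ.2.1 fun g => by
    obtain ⟨y, hy⟩ := hq (σ g)
    exact ⟨t y, ⟨y, rfl⟩, (hst y).trans hy⟩
  have hmem : ∀ a : A, t (e.symm a : Γ) ∈ σ.ker := fun a => by
    rw [MonoidHom.mem_ker, hst]
    exact MonoidHom.mem_ker.1 (e.symm a).2
  refine ⟨((t.comp (q.ker.subtype.comp e.symm.toMonoidHom))).codRestrict σ.ker hmem, fun z => ?_⟩
  obtain ⟨y, hy⟩ : (z : E) ∈ t.range := by rw [hrange]; exact Subgroup.mem_top _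
  have hyk : y ∈ q.ker := by
    rw [MonoidHom.mem_ker, ← hst, hy]
    exact MonoidHom.mem_ker.1 z.2
  exact ⟨e ⟨y, hyk⟩, Subtype.ext (by simpa using hy)⟩

/-- A perfect group with trivial multiplier splits all finite central extensions. -/
theorem splitsAll_of_trivial {Γ : Type u} [Group Γ] (hperf : commutator Γ = ⊤)
    (h : Cfsg.HasCyclicSchurMultiplier Γ 1) : SplitsAll Γ := by
  intro E _ _ P
  set σ := P.p.comp (commutator E).subtype with hσ
  have hsurj : Function.Surjective σ := fun g => by
    have hg : g ∈ (commutator E).map P.p := by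
      rw [CfsgLib.SchurCover.map_commutator_eq P.p P.surj, hperf]; exact Subgroup.mem_top g
    obtain ⟨x, hx, rfl⟩ := hg
    exact ⟨⟨x, hx⟩, rfl⟩
  have hperfE : commutator ↥(commutator E) = ⊤ := by
    have hle : commutator E ≤ ⁅commutator E, commutator E⁆ := by
      rw [commutator_def E, Subgroup.commutator_le]
      intro a _ b _
      obtain ⟨⟨x, hx⟩, hxa⟩ := hsurj (P.p a)
      obtain ⟨⟨y, hy⟩, hyb⟩ := hsurj (P.p b)
      rw [show ⁅a, b⁆ = ⁅x, y⁆ from
        CfsgLib.SchurCover.commutator_congr_central (P.inv_mul_mem_center hxa)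
          (P.inv_mul_mem_center hyb)]
      exact Subgroup.commutator_mem_commutator hx hy
    apply Subgroup.map_injective (commutator E).subtype_injective
    rw [commutator_def ↥(commutator E), Subgroup.map_commutator, ← MonoidHom.range_eq_map, Subgroup.range_subtype]
    exact le_antisymm (Subgroup.commutator_le_self _) hle
  have hstem : Cfsg.IsStemExtension σ := by
    refine ⟨hsurj, fun x hx => Subgroup.mem_center_iff.2 fun y => Subtype.ext ?_,
      by rw [hperfE]; exact le_top⟩
    exact Subgroup.mem_center_iff.1 (P.central (show (x : E) ∈ P.p.ker from hx)) y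
  obtain ⟨π, hπ⟩ := h.2 _ σ hstem
  have : Subsingleton (Multiplicative (ZMod 1)) := inferInstanceAs (Subsingleton (ZMod 1))
  have : Subsingleton ↥σ.ker := hπ.subsingleton
  refine CfsgLib.SchurCover.exists_section_of_perfect ((Group.isPerfect_def).2 hperf) P.p P.surj ?_
  refine (Subgroup.eq_bot_iff_forall _).2 fun x hx => ?_
  have h1 : (⟨⟨x, hx.2⟩, hx.1⟩ : ↥σ.ker) = 1 := Subsingleton.elim _ _
  exact congrArg (fun z : ↥σ.ker => ((z : ↥(commutator E)) : E)) h1

end CfsgLib.ChevMult
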