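import Mathlib.GroupTheory.Subgroup.Center
import Mathlib.GroupTheory.Commutator.Basic
import Mathlib.Logic.Function.Basic
import Mathlib.Tactic.Group

/-!
The commutator of lifts in a central extension.
-/

set_option autoImplicit false

namespace CfsgLib.ChevMult

open scoped commutatorElement

/-- A central extension. -/
structure CExt (E Γ : Type*) [Group E] [Group Γ] where
  p : E →* Γ
  surj : Function.Surjective p
  central : p.ker ≤ Subgroup.center E

namespace CExt

variable {E Γ : Type*} [Group E] [Group Γ] (P : CExt E Γ)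

/-- A chosen lift. -/
noncomputable def lift (g : Γ) : E := Function.surjInv P.surj g

theorem p_lift (g : Γ) : P.p (P.lift g) = g := Function.surjInv_eq P.surj g

theorem inv_mul_mem_center {x x' : E} (h : P.p x = P.p x') : x⁻¹ * x' ∈ Subgroup.center E :=
  P.central (by rw [MonoidHom.mem_ker, map_mul, map_inv, h, inv_mul_cancel])

/-- The commutator of lifts. -/
noncomputable def cm (a b : Γ) : E := ⁅P.lift a, P.lift b⁆

theorem comm_central_left {x y z : E} (hz : z ∈ Subgroup.center E) : ⁅x * z, y⁆ = ⁅x, y⁆ := by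
  have h := Subgroup.mem_center_iff.1 hz
  rw [commutatorElement_def, commutatorElement_def]
  calc x * z * y * (x * z)⁻¹ * y⁻¹ = x * (z * y) * z⁻¹ * x⁻¹ * y⁻¹ := by group
    _ = x * (y * z) * z⁻¹ * x⁻¹ * y⁻¹ := by rw [h y]
    _ = _ := by group

theorem comm_central_right {x y z : E} (hz : z ∈ Subgroup.center E) : ⁅x, y * z⁆ = ⁅x, y⁆ := by
  rw [← commutatorElement_inv (y * z) x, comm_central_left hz, commutatorElement_inv]

theorem cm_eq {x y : E} {a b : Γ} (hx : P.p x = a) (hy : P.p y = b) : P.cm a b = ⁅x, y⁆ := by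
  have h1 := P.inv_mul_mem_center (x := x) (x' := P.lift a) (by rw [hx, P.p_lift])
  have h2 := P.inv_mul_mem_center (x := y) (x' := P.lift b) (by rw [hy, P.p_lift])
  have e1 : P.lift a = x * (x⁻¹ * P.lift a) := by group
  have e2 : P.lift b = y * (y⁻¹ * P.lift b) := by group
  rw [cm, e1, e2, comm_central_left h1, comm_central_right h2]

theorem p_cm (a b : Γ) : P.p (P.cm a b) = ⁅a, b⁆ := by
  rw [cm, map_commutatorElement, P.p_lift, P.p_lift]

theorem conj_cm (e : E) (a b : Γ) :
    e * P.cm a b * e⁻¹ = P.cm (P.p e * a * (P.p e)⁻¹) (P.p e * b * (P.p e)⁻¹) := by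
  rw [P.cm_eq (x := e * P.lift a * e⁻¹) (y := e * P.lift b * e⁻¹)
    (a := P.p e * a * (P.p e)⁻¹) (b := P.p e * b * (P.p e)⁻¹)
    (by rw [map_mul, map_mul, map_inv, P.p_lift]) (by rw [map_mul, map_mul, map_inv, P.p_lift]),
    cm, commutatorElement_def, commutatorElement_def]
  group

theorem cm_mul_left {x : E} {a a' b : Γ} (hx : P.p x = a) :
    P.cm (a * a') b = x * P.cm a' b * x⁻¹ * P.cm a b := by
  rw [P.cm_eq (x := x * P.lift a') (y := P.lift b) (by rw [map_mul, hx, P.p_lift]) (P.p_lift b),
    P.cm_eq hx (P.p_lift b), cm, commutatorElement_def, commutatorElement_def,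
    commutatorElement_def]
  group

theorem cm_mul_right {y : E} {a b b' : Γ} (hy : P.p y = b) :
    P.cm a (b * b') = P.cm a b * (y * P.cm a b' * y⁻¹) := by
  rw [P.cm_eq (x := P.lift a) (y := y * P.lift b') (P.p_lift a) (by rw [map_mul, hy, P.p_lift]),
    P.cm_eq (P.p_lift a) hy, cm, commutatorElement_def, commutatorElement_def,
    commutatorElement_def]
  group

theorem cm_mem_center {a b : Γ} (h : a * b = b * a) : P.cm a b ∈ Subgroup.center E :=
  P.central (by rw [MonoidHom.mem_ker, P.p_cm, commutatorElement_eq_one_iff_mul_comm]; exact h)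

theorem cm_inv (a b : Γ) : (P.cm a b)⁻¹ = P.cm b a := by
  rw [cm, cm, commutatorElement_inv]

/-- An element commuting with two elements pairs trivially with their commutator. -/
theorem cm_comm_right {s g g' : Γ} (hg : s * g = g * s) (hg' : s * g' = g' * s) :
    P.cm s ⁅g, g'⁆ = 1 := by
  set e := P.lift s
  set x := P.lift g
  set y := P.lift g'
  have hx : x⁻¹ * (e * x * e⁻¹) ∈ Subgroup.center E := P.inv_mul_mem_center (by
    rw [map_mul, map_mul, map_inv, P.p_lift, P.p_lift, hg, mul_inv_cancel_right])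
  have hy : y⁻¹ * (e * y * e⁻¹) ∈ Subgroup.center E := P.inv_mul_mem_center (by
    rw [map_mul, map_mul, map_inv, P.p_lift, P.p_lift, hg', mul_inv_cancel_right])
  rw [P.cm_eq (x := e) (y := ⁅x, y⁆) (P.p_lift s)
    (by rw [map_commutatorElement, P.p_lift, P.p_lift]), commutatorElement_eq_one_iff_mul_comm,
    ← mul_inv_eq_iff_eq_mul]
  calc e * ⁅x, y⁆ * e⁻¹ = ⁅e * x * e⁻¹, e * y * e⁻¹⁆ := by
        rw [commutatorElement_def, commutatorElement_def]; group
    _ = ⁅x * (x⁻¹ * (e * x * e⁻¹)), y * (y⁻¹ * (e * y * e⁻¹))⁆ := by group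
    _ = ⁅x, y⁆ := by rw [comm_central_left hx, comm_central_right hy]

/-- Lifts commute when their commutator vanishes. -/
theorem commute_of_cm {x y : E} {a b : Γ} (hx : P.p x = a) (hy : P.p y = b) (h : P.cm a b = 1) :
    x * y = y * x := by
  rwa [P.cm_eq hx hy, commutatorElement_eq_one_iff_mul_comm] at h

end CExt

end CfsgLib.ChevMult
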