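import Cfsg.Agent.Lib.ChevMult.General
import Cfsg.Agent.Lib.Chev.CertE6
import Cfsg.Agent.Lib.Chev.CertE7
import Cfsg.Agent.Lib.Chev.CertE8
import Cfsg.Agent.Lib.ChevStr.Mem

/-!
Steinberg's groups of types E6, E7 inside the Chevalley groups of types E7, E8: the torus of
Steinberg's group is free and its centre is cyclic of the expected order.
-/

set_option autoImplicit false
set_option maxRecDepth 100000
set_option synthInstance.maxSize 4000
-- one kernel check at a time keeps the peak memory low
set_option Elab.async false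

namespace CfsgLib.ChevMult

open Cfsg.Lie CfsgLib.ChevStr CfsgLib.ChevCover
open scoped MatrixGroups

universe u

/-- A map of root indices compatible with the tables. -/
def EmbCompat (D D' : ChevalleyDatum) (ι : ℕ → ℕ) : Prop :=
  ∀ r < D.nroots, ι r < D'.nroots ∧ ι (D.neg r) = D'.neg (ι r) ∧
    ∀ s < D.nroots, s ≠ r → s ≠ D.neg r → ι s ≠ ι r ∧ ι s ≠ D'.neg (ι r) ∧
      D'.commTerms (ι r) (ι s) = (D.commTerms r s).map fun c => (ι c.1, c.2)

/-- A map of fundamental roots under which the Cartan table has an integral left inverse. -/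
def EmbCartan (D D' : ChevalleyDatum) (ι : ℕ → ℕ) (j : Fin D.rank → Fin D'.rank)
    (M : List (List ℤ)) : Prop :=
  (∀ i : Fin D.rank, ι (D.simple i.val) = D'.simple (j i).val) ∧
  ∀ a i : Fin D.rank, (∑ l : Fin D'.rank, tableEnt M a.val l.val *
    D'.cartan (j i).val (D'.simple l.val)) = if a = i then 1 else 0

variable {D D' : ChevalleyDatum} {F : Type u} [Field F]

/-- The homomorphism of Steinberg's group given by a compatible map of root indices. -/
theorem exists_embHom (C : ChevCore D F) (C' : ChevCore D' F) {ι : ℕ → ℕ}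
    (h : EmbCompat D D' ι) :
    ∃ ψ : D.SteinbergGroup F →* GL D'.Idx F,
      ∀ (r : Fin D.nroots) (t : F), ψ (D.stGen F r t) = C'.xGL (ι r) t := by
  let f : Fin D.nroots × F → GL D'.Idx F := fun p => C'.xGL (ι p.1) p.2
  have hX : ∀ r < D.nroots, ∀ t, FreeGroup.lift f (D.stX r t) = C'.xGL (ι r) t := fun r hr t => by
    simp [ChevalleyDatum.stX, dif_pos hr, f]
  have hW : ∀ w : List (ℕ × F), (∀ p ∈ w, p.1 < D.nroots) →
      FreeGroup.lift f (D.stWord w) = C'.wordGL (w.map fun p => (ι p.1, p.2)) := by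
    intro w hw
    rw [ChevalleyDatum.stWord, map_list_prod, List.map_map, ChevCore.wordGL, List.map_map]
    exact congrArg List.prod (List.map_congr_left fun p hp => hX _ (hw p hp) _)
  have hrels : ∀ g ∈ D.steinbergRels F, FreeGroup.lift f g = 1 := by
    rintro g ((⟨r, t, u, hr, rfl⟩ | ⟨r, s, t, u, hr, hs, h1, h2, rfl⟩) |
      ⟨r, t, u, hr, ht, hu, rfl⟩)
    · rw [map_mul, map_mul, map_inv, hX r hr, hX r hr, hX r hr, ← C'.xGL_add, mul_inv_cancel]
    · obtain ⟨hr', -, hh⟩ := h r hr
      obtain ⟨hne, hnn, hterms⟩ := hh s hs h1 h2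
      have hw : ∀ p ∈ D.commWord F r s t u, p.1 < D.nroots := fun p hp => by
        obtain ⟨c, hc, rfl⟩ := List.mem_map.1 hp
        exact (C.R.commTerms_spec hc).1
      simp only [map_mul, map_inv, hX r hr, hX s hs, hW _ hw]
      have hword : (D.commWord F r s t u).map (fun p => (ι p.1, p.2)) =
          D'.commWord F (ι r) (ι s) t u := by
        rw [ChevalleyDatum.commWord, ChevalleyDatum.commWord, hterms, List.map_map, List.map_map]
        rfl
      rw [hword, mul_assoc _ (C'.xGL (ι s) u), C'.xGL_comm hr' (h s hs).1 hne hnn]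
      group
    · obtain ⟨hr', hneg, -⟩ := h r hr
      have hH : ∀ v : F, FreeGroup.lift f (D.stH r v) = C'.hGL (ι r) v := fun v => by
        rw [ChevalleyDatum.stH, hW _ (fun p hp => ?_)]
        · simp only [ChevalleyDatum.hWord, ChevalleyDatum.nWord, List.cons_append, List.nil_append,
            List.map_cons, List.map_nil, hneg]
          rfl
        · simp only [ChevalleyDatum.hWord, ChevalleyDatum.nWord, List.cons_append, List.nil_append,
            List.mem_cons, List.not_mem_nil, or_false] at hp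
          rcases hp with rfl | rfl | rfl | rfl | rfl | rfl <;>
            first | exact hr | exact C.R.neg_lt r hr
      rw [map_mul, map_mul, map_inv, hH, hH, hH, mul_inv_eq_one]
      exact (hGL_mul C' hr' ht hu).symm
  refine ⟨PresentedGroup.toGroup hrels, fun r t => ?_⟩
  show PresentedGroup.toGroup hrels (PresentedGroup.mk _ (D.stX r t)) = _
  rw [← hX r r.isLt t]
  rfl

/-- A monomial map for a rectangular matrix of exponents. -/
def rMap {G : Type*} [CommGroup G] {m n : ℕ} (A : Fin m → Fin n → ℤ) (c : Fin n → G) :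
    Fin m → G := fun k => ∏ i, c i ^ A k i

theorem rMap_rMap {G : Type*} [CommGroup G] {l m n : ℕ} (A : Fin l → Fin m → ℤ)
    (B : Fin m → Fin n → ℤ) (c : Fin n → G) :
    rMap A (rMap B c) = rMap (fun i j => ∑ k, A i k * B k j) c := by
  classical
  funext i
  simp only [rMap]
  calc ∏ k, (∏ j, c j ^ B k j) ^ A i k = ∏ k, ∏ j, c j ^ (A i k * B k j) := by
        refine Finset.prod_congr rfl fun k _ => ?_
        rw [← Finset.prod_zpow]
        exact Finset.prod_congr rfl fun j _ => by rw [← zpow_mul, mul_comm]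
    _ = ∏ j, ∏ k, c j ^ (A i k * B k j) := Finset.prod_comm
    _ = _ := by
        refine Finset.prod_congr rfl fun j _ => ?_
        induction (Finset.univ : Finset (Fin m)) using Finset.induction_on with
        | empty => simp
        | insert a S ha ih => rw [Finset.prod_insert ha, Finset.sum_insert ha, zpow_add, ih]

theorem rMap_map_one {G : Type*} [CommGroup G] {m n : ℕ} (A : Fin m → Fin n → ℤ) :
    rMap A (fun _ => (1 : G)) = fun _ => 1 := by
  funext k; simp [rMap]

theorem rMap_one {G : Type*} [CommGroup G] {n : ℕ} (c : Fin n → G) :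
    rMap (fun i j => if i = j then (1 : ℤ) else 0) c = c := by
  funext k
  rw [rMap, Fintype.prod_eq_single k fun b hb => by simp [Ne.symm hb]]
  simp

/-- The centre of Steinberg's group as the kernel of the torus map. -/
theorem exists_center_equiv (C : ChevCore D F) (C' : ChevCore D' F) (hadj : Cover.HasNeighbours D)
    {ι : ℕ → ℕ} (h : EmbCompat D D' ι) {j : Fin D.rank → Fin D'.rank} {M : List (List ℤ)}
    (hj : EmbCartan D D' ι j M) :
    Nonempty ((C.R.torus (F := F)).ker ≃* Subgroup.center (D.SteinbergGroup F)) := by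
  classical
  obtain ⟨φ, hφ, hle, hθ⟩ := exists_torusLift C hadj
  obtain ⟨ψ, hψ⟩ := exists_embHom C C' h
  let ext : (Fin D.rank → Fˣ) → Fin D'.rank → Fˣ :=
    rMap fun k i => if j i = k then 1 else 0
  have hext : ∀ c, ψ (φ c) = C'.R.torus (ext c) := by
    let e : (Fin D.rank → Fˣ) →* (Fin D'.rank → Fˣ) :=
      { toFun := ext
        map_one' := rMap_map_one _
        map_mul' := fun c c' => funext fun k => by
          simp only [ext, rMap, Pi.mul_apply, mul_zpow, Finset.prod_mul_distrib] }
    suffices hs : ψ.comp φ = (C'.R.torus).comp e from fun c => DFunLike.congr_fun hs c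
    refine MonoidHom.pi_ext fun i x => ?_
    rw [MonoidHom.comp_apply, hφ, MonoidHom.comp_apply,
      show e (Pi.mulSingle i x) = Pi.mulSingle (j i) x from funext fun k => by
        show (∏ i' : Fin D.rank, (Pi.mulSingle i x : Fin D.rank → Fˣ) i' ^
          (if j i' = k then (1 : ℤ) else 0)) = _
        rw [Fintype.prod_eq_single i fun b hb => by simp [hb]]
        by_cases hk : j i = k
        · subst hk; simp
        · simp [hk, Ne.symm hk]]
    obtain ⟨-, hneg, -⟩ := h _ (C.R.simple_lt i)
    have hp : (steinberg C).H (C.pRoot i) (x : F) = D.stGen F (C.pRoot i) x *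
        D.stGen F ((steinberg C).negF (C.pRoot i)) (-(x : F)⁻¹) * D.stGen F (C.pRoot i) x *
        (D.stGen F (C.pRoot i) (-1) * D.stGen F ((steinberg C).negF (C.pRoot i)) (-(-1 : F)⁻¹) *
          D.stGen F (C.pRoot i) (-1)) := rfl
    rw [hp]
    simp only [map_mul, hψ]
    rw [show ι ((steinberg C).negF (C.pRoot i) : Fin D.nroots) = D'.neg (ι (C.pRoot i)) from hneg,
      show ι (C.pRoot i) = D'.simple (j i).val from hj.1 i,
      show C'.R.torus (Pi.mulSingle (j i) x) = C'.R.torusSingle (j i) x from rfl, ← C'.hGL_simple]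
    simp [ChevCore.hGL, ChevCore.wordGL, ChevalleyDatum.hWord, ChevalleyDatum.nWord, mul_assoc]
  have hinj : ∀ c, φ c = 1 → c = 1 := by
    intro c hc
    have h1 : C'.R.torus (ext c) = 1 := by rw [← hext, hc, map_one]
    rw [C'.torus_eq_one_iff] at h1
    have h2 := congrArg (rMap fun (a : Fin D.rank) (l : Fin D'.rank) => tableEnt M a.val l.val) h1
    change rMap _ (rMap (fun (l : Fin D'.rank) k => D'.cartan k.val (D'.simple l.val)) (ext c)) =
      rMap _ (fun _ => 1) at h2
    simp only [ext, rMap_rMap, rMap_map_one] at h2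
    have hmat : (fun a i => ∑ l : Fin D'.rank, tableEnt M a.val l.val *
        ∑ k : Fin D'.rank, D'.cartan k.val (D'.simple l.val) * if j i = k then (1 : ℤ) else 0) =
        fun a i : Fin D.rank => if a = i then 1 else 0 := by
      funext a i
      rw [← hj.2 a i]
      refine Finset.sum_congr rfl fun l _ => ?_
      rw [Fintype.sum_eq_single (j i) fun k hk => by simp [Ne.symm hk]]
      simp
    rw [hmat, rMap_one] at h2
    exact h2
  have hker := ker_groupHom_eq_center C hadj
  have hmem : ∀ c, c ∈ (C.R.torus (F := F)).ker ↔ φ c ∈ Subgroup.center (D.SteinbergGroup F) := by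
    intro c
    rw [← hker, ker_groupHom_eq, MonoidHom.mem_ker, MonoidHom.mem_ker, ← MonoidHom.comp_apply, hθ]
  refine ⟨MulEquiv.ofBijective
    ((φ.comp (C.R.torus (F := F)).ker.subtype).codRestrict _ fun c => (hmem c).1 c.2) ⟨?_, ?_⟩⟩
  · refine (injective_iff_map_eq_one _).2 fun c hc => Subtype.ext (hinj _ ?_)
    exact congrArg Subtype.val hc
  · rintro ⟨z, hz⟩
    obtain ⟨c, rfl⟩ := hle (hker.symm ▸ hz)
    exact ⟨⟨c, (hmem c).2 hz⟩, rfl⟩

/-- The kernel of the torus map is cyclic when the Smith form has one non-unit entry. -/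
theorem ker_torus_cyclic [Fintype F] (C : ChevCore D F) {P P' Q Q' : List (List ℤ)} {d : List ℕ}
    (hs : smithCheck D P P' Q Q' d = true) (a₀ : Fin D.rank) (n : ℕ)
    (hd : ∀ a : Fin D.rank, a ≠ a₀ → d.getD a.val 0 = 1) (hn : d.getD a₀.val 0 = n) :
    IsCyclic (C.R.torus (F := F)).ker ∧
      Nat.card (C.R.torus (F := F)).ker = Nat.gcd n (Fintype.card F - 1) := by
  classical
  have h0 := C.card_diagonal (F := F) hs
  have h1 := (C.R.torus (F := F)).ker.card_mul_index
  rw [Subgroup.index_ker, ← C.diagonalSubgroup_eq, Nat.card_pi, Finset.prod_const, Finset.card_univ,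
    Fintype.card_fin, Nat.card_units, Nat.card_eq_fintype_card (α := F), ← h0] at h1
  have hprod : ∏ a : Fin D.rank, Nat.gcd (Fintype.card F - 1) (d.getD a.val 0) =
      Nat.gcd n (Fintype.card F - 1) := by
    rw [Fintype.prod_eq_single a₀ fun a ha => by rw [hd a ha, Nat.gcd_one_right], hn, Nat.gcd_comm]
  rw [hprod] at h1
  have hpos : Nat.card ↥(D.diagonalSubgroup F) ≠ 0 := Nat.card_pos.ne'
  refine ⟨?_, Nat.eq_of_mul_eq_mul_right (Nat.pos_of_ne_zero hpos) h1⟩
  simp only [smithCheck, List.all_eq_true, List.mem_finRange, true_implies, Bool.and_eq_true,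
    decide_eq_true_eq] at hs
  set p := fun i j : Fin D.rank => tableEnt P i.val j.val
  set p' := fun i j : Fin D.rank => tableEnt P' i.val j.val
  set q := fun i j : Fin D.rank => tableEnt Q i.val j.val
  set q' := fun i j : Fin D.rank => tableEnt Q' i.val j.val
  let f : (C.R.torus (F := F)).ker →* Fˣ :=
    { toFun := fun c => monMap q c.1 a₀
      map_one' := by
        show monMap q (1 : Fin D.rank → Fˣ) a₀ = 1
        exact congrFun (monMap_map_one q) a₀
      map_mul' := fun c c' => by
        show monMap q (c.1 * c'.1) a₀ = monMap q c.1 a₀ * monMap q c'.1 a₀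
        simp only [monMap, Pi.mul_apply, mul_zpow, Finset.prod_mul_distrib] }
  refine isCyclic_of_injective f ((injective_iff_map_eq_one f).2 fun c hc => Subtype.ext ?_)
  have hker : C.R.torus c.1 = 1 := c.2
  rw [C.torus_eq_one_iff] at hker
  have hB : monMap (fun i j => D.cartan j.val (D.simple i.val)) c.1 =
      monMap p (fun a => monMap q c.1 a ^ d.getD a.val 0) := by
    have e : (fun a => monMap q c.1 a ^ d.getD a.val 0) =
        monMap (fun i j : Fin D.rank => if i = j then (d.getD i.val 0 : ℤ) else 0) (monMap q c.1) :=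
      funext fun a => by
        show _ = ∏ j, monMap q c.1 j ^ (if a = j then (d.getD a.val 0 : ℤ) else 0)
        rw [Fintype.prod_eq_single a fun b hb => by simp [Ne.symm hb]]
        simp
    rw [e, monMap_monMap, monMap_monMap]
    congr 1
    funext i j
    rw [← (hs i j).1.1.1]
    refine Finset.sum_congr rfl fun a _ => ?_
    rw [Fintype.sum_eq_single a fun b hb => by simp [hb, Ne.symm hb]]
    simp [p, q, mul_assoc]
  have hone : ∀ a, monMap q c.1 a = 1 := by
    intro a
    by_cases ha : a = a₀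
    · subst ha; exact hc
    have h2 := congrArg (monMap p') (hB.symm.trans hker)
    rw [monMap_map_one, monMap_monMap,
      show (fun i j => ∑ a, p' i a * p a j) = fun i j => if i = j then (1 : ℤ) else 0 from
        funext fun i => funext fun j => (hs i j).1.1.2, monMap_one] at h2
    have := congrFun h2 a
    rwa [hd a ha, pow_one] at this
  have h3 : monMap q c.1 = fun _ => 1 := funext hone
  have h4 : monMap q' (monMap q c.1) = c.1 := by
    rw [monMap_monMap]
    conv_rhs => rw [← monMap_one c.1]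
    congr 1; funext i j; exact (hs i j).1.2
  rw [← h4, h3, monMap_map_one]
  rfl

/-- Root indices of E6 inside E7. -/
def iotaE6 (r : ℕ) : ℕ :=
  [6, 10, 13, 15, 16, 19, 21, 22, 24, 25, 26, 28, 29, 30, 31, 32, 35, 37, 38, 40, 41, 42, 44, 45, 46, 47, 49, 50, 51, 52, 54, 55, 56, 58, 59, 61, 64, 66, 67, 69, 70, 71, 73, 74, 75, 76, 78, 79, 80, 81, 83, 84, 85, 87, 88, 90, 93, 94, 95, 96, 97, 99, 100, 101, 103, 104, 106, 109, 110, 112, 115, 119].getD r 0

/-- Root indices of E7 inside E8. -/
def iotaE7 (r : ℕ) : ℕ :=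
  [13, 20, 25, 29, 32, 34, 35, 39, 42, 44, 45, 48, 50, 51, 53, 54, 55, 58, 60, 61, 63, 64, 65, 67, 68, 69, 70, 72, 73, 74, 75, 76, 77, 80, 82, 83, 85, 86, 87, 89, 90, 91, 92, 94, 95, 96, 97, 98, 100, 101, 102, 103, 104, 106, 107, 108, 109, 111, 112, 113, 115, 116, 118, 121, 123, 124, 126, 127, 128, 130, 131, 132, 133, 135, 136, 137, 138, 139, 141, 142, 143, 144, 145, 147, 148, 149, 150, 152, 153, 154, 156, 157, 159, 162, 163, 164, 165, 166, 167, 169, 170, 171, 172, 174, 175, 176, 178, 179, 181, 184, 185, 186, 188, 189, 191, 194, 195, 197, 200, 204, 205, 207, 210, 214, 219, 226].getD r 0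

/-- `EmbCompat` at one root, on the tables. -/
def embF (T T' : CfsgLib.Chev.Data) (ι : ℕ → ℕ) (r : ℕ) : Bool :=
  Nat.blt (ι r) T'.n && Nat.beq (ι (T.row r).neg) (T'.row (ι r)).neg &&
  (List.range T.n).all fun s => Nat.beq s r || Nat.beq s (T.row r).neg ||
    (!Nat.beq (ι s) (ι r) && !Nat.beq (ι s) (T'.row (ι r)).neg &&
      decide (T'.commFast (ι r) (ι s) = (T.commFast r s).map fun c => (ι c.1, c.2)))

theorem embCompat_of {D D' : ChevalleyDatum} {T T' : CfsgLib.Chev.Data} (hv : T.Valid D)
    (hv' : T'.Valid D') {ι : ℕ → ℕ} (hlt : ∀ r < T.n, Nat.blt (ι r) T'.n = true)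
    (h : ∀ r < T.n, embF T T' ι r = true) : EmbCompat D D' ι := by
  intro r hr
  rw [← hv.hn] at hr
  have hr' : ι r < T'.n := Nat.blt_eq.mp (hlt r hr)
  have h1 := h r hr
  simp only [embF, Bool.and_eq_true, Nat.beq_eq, List.all_eq_true, List.mem_range] at h1
  obtain ⟨⟨-, hneg⟩, hall⟩ := h1
  rw [hv'.neg_eq _ hr', hv.neg_eq r hr] at hneg
  refine ⟨hv'.hn ▸ hr', hneg, fun s hs h1 h2 => ?_⟩
  rw [← hv.hn] at hs
  have h3 := hall s hs
  simp only [Bool.or_eq_true, Nat.beq_eq, Bool.and_eq_true, Bool.not_eq_true', decide_eq_true_eq] at h3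
  rw [hv.neg_eq r hr] at h3
  rcases h3 with (e | e) | ⟨⟨hne, hnn⟩, hc⟩
  · exact absurd e h1
  · exact absurd e h2
  · refine ⟨fun e => ?_, fun e => ?_, ?_⟩
    · simp [e] at hne
    · rw [← hv'.neg_eq _ hr'] at e
      simp [e] at hnn
    · rw [hv'.commTerms_eq hr' (Nat.blt_eq.mp (hlt s hs)), hv.commTerms_eq hr hs]
      exact hc

/-- A check over a range, in pieces. -/
theorem all_range'_spec {p : ℕ → Bool} {a k : ℕ} (h : (List.range' a k).all p = true) (r : ℕ)
    (h1 : a ≤ r) (h2 : r < a + k) : p r = true :=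
  (List.all_eq_true.1 h) r (List.mem_range'_1.2 ⟨h1, h2⟩)

theorem embE6_0 : (List.range' 0 24).all
    (embF CfsgLib.Chev.E6.data CfsgLib.Chev.E7.data iotaE6) = true := by decide +kernel

theorem embE6_1 : (List.range' 24 24).all
    (embF CfsgLib.Chev.E6.data CfsgLib.Chev.E7.data iotaE6) = true := by decide +kernel

theorem embE6_2 : (List.range' 48 24).all
    (embF CfsgLib.Chev.E6.data CfsgLib.Chev.E7.data iotaE6) = true := by decide +kernel

theorem embCompatE6 : EmbCompat chevE6 chevE7 iotaE6 :=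
  embCompat_of (CfsgLib.Chev.E6.cert).hv (CfsgLib.Chev.E7.cert).hv (by decide +kernel) fun r hr => by
    have hr' : r < 72 := hr
    rcases Nat.lt_or_ge r 24 with g0 | h0
    · exact all_range'_spec embE6_0 r (Nat.zero_le r) g0
    rcases Nat.lt_or_ge r 48 with g1 | h1
    · exact all_range'_spec embE6_1 r h0 g1
    exact all_range'_spec embE6_2 r h1 hr'

theorem embE7_0 : (List.range' 0 21).all
    (embF CfsgLib.Chev.E7.data CfsgLib.Chev.E8.data iotaE7) = true := by decide +kernel

theorem embE7_1 : (List.range' 21 21).all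
    (embF CfsgLib.Chev.E7.data CfsgLib.Chev.E8.data iotaE7) = true := by decide +kernel

theorem embE7_2 : (List.range' 42 21).all
    (embF CfsgLib.Chev.E7.data CfsgLib.Chev.E8.data iotaE7) = true := by decide +kernel

theorem embE7_3 : (List.range' 63 21).all
    (embF CfsgLib.Chev.E7.data CfsgLib.Chev.E8.data iotaE7) = true := by decide +kernel

theorem embE7_4 : (List.range' 84 21).all
    (embF CfsgLib.Chev.E7.data CfsgLib.Chev.E8.data iotaE7) = true := by decide +kernel

theorem embE7_5 : (List.range' 105 21).all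
    (embF CfsgLib.Chev.E7.data CfsgLib.Chev.E8.data iotaE7) = true := by decide +kernel

theorem embCompatE7 : EmbCompat chevE7 chevE8 iotaE7 :=
  embCompat_of (CfsgLib.Chev.E7.cert).hv (CfsgLib.Chev.E8.cert).hv (by decide +kernel) fun r hr => by
    have hr' : r < 126 := hr
    rcases Nat.lt_or_ge r 21 with g0 | h0
    · exact all_range'_spec embE7_0 r (Nat.zero_le r) g0
    rcases Nat.lt_or_ge r 42 with g1 | h1
    · exact all_range'_spec embE7_1 r h0 g1
    rcases Nat.lt_or_ge r 63 with g2 | h2
    · exact all_range'_spec embE7_2 r h1 g2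
    rcases Nat.lt_or_ge r 84 with g3 | h3
    · exact all_range'_spec embE7_3 r h2 g3
    rcases Nat.lt_or_ge r 105 with g4 | h4
    · exact all_range'_spec embE7_4 r h3 g4
    exact all_range'_spec embE7_5 r h4 hr'

theorem embCartanE6 : EmbCartan chevE6 chevE7 iotaE6 (Fin.castLE (by decide))
    [[-2, -4, -5, -8, -7, -6, -5], [1, 2, 2, 3, 2, 1, 0], [-1, -2, -2, -4, -4, -4, -4], [0, 0, 0, 0, -1, -2, -3], [0, 0, 0, 0, 0, -1, -2], [0, 0, 0, 0, 0, 0, -1]] := by
  unfold EmbCartan; decide +kernel

theorem embCartanE7 : EmbCartan chevE7 chevE8 iotaE7 (Fin.castLE (by decide))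
    [[-2, -4, -5, -8, -7, -6, -5, -4], [1, 2, 2, 3, 2, 1, 0, -1], [-1, -2, -2, -4, -4, -4, -4, -4], [0, 0, 0, 0, -1, -2, -3, -4], [0, 0, 0, 0, 0, -1, -2, -3], [0, 0, 0, 0, 0, 0, -1, -2], [0, 0, 0, 0, 0, 0, 0, -1]] := by
  unfold EmbCartan; decide +kernel

/-- The centre of Steinberg's group of type E6. -/
theorem center_E6 [Fintype F] :
    IsCyclic (Subgroup.center (chevE6.SteinbergGroup F)) ∧
      Nat.card (Subgroup.center (chevE6.SteinbergGroup F)) = Nat.gcd 3 (Fintype.card F - 1) := by
  have hD : chevE6 ∈ [chevG2, chevB2, chevD4, chevF4, chevE6, chevE7, chevE8] := by simp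
  have hD' : chevE7 ∈ [chevG2, chevB2, chevD4, chevF4, chevE6, chevE7, chevE8] := by simp
  obtain C := chevCore hD F
  obtain C' := chevCore hD' F
  obtain ⟨e⟩ := exists_center_equiv C C' (hasNeighbours hD) embCompatE6 embCartanE6
  obtain ⟨h1, h2⟩ := ker_torus_cyclic C smithE6 ⟨5, by decide⟩ 3 (by decide +kernel) (by decide +kernel)
  exact ⟨isCyclic_of_surjective e.toMonoidHom e.surjective, by rw [← Nat.card_congr e.toEquiv, h2]⟩

/-- The centre of Steinberg's group of type E7. -/
theorem center_E7 [Fintype F] :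
    IsCyclic (Subgroup.center (chevE7.SteinbergGroup F)) ∧
      Nat.card (Subgroup.center (chevE7.SteinbergGroup F)) = Nat.gcd 2 (Fintype.card F - 1) := by
  have hD : chevE7 ∈ [chevG2, chevB2, chevD4, chevF4, chevE6, chevE7, chevE8] := by simp
  have hD' : chevE8 ∈ [chevG2, chevB2, chevD4, chevF4, chevE6, chevE7, chevE8] := by simp
  obtain C := chevCore hD F
  obtain C' := chevCore hD' F
  obtain ⟨e⟩ := exists_center_equiv C C' (hasNeighbours hD) embCompatE7 embCartanE7
  obtain ⟨h1, h2⟩ := ker_torus_cyclic C smithE7 ⟨6, by decide⟩ 2 (by decide +kernel) (by decide +kernel)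
  exact ⟨isCyclic_of_surjective e.toMonoidHom e.surjective, by rw [← Nat.card_congr e.toEquiv, h2]⟩

end CfsgLib.ChevMult
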