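import Cfsg.Agent.Lib.ChevMult.LacedCert
import Cfsg.Agent.Lib.ChevMult.General

/-!
Over every finite field Steinberg's groups of types E6, E7, E8 map to all central extensions of the
Chevalley groups.
-/

set_option autoImplicit false

namespace CfsgLib.ChevMult

open Cfsg.Lie CfsgLib.ChevStr CfsgLib.ChevCover
open scoped MatrixGroups commutatorElement

universe u

variable {D : ChevalleyDatum} {F : Type u} [Field F]

/-- Splitting of the central extensions of the presented group gives lifts of all homomorphisms. -/
theorem exists_lift_of_split {Δ : Type u}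
    [Group Δ] (hsplit : ∀ (E : Type u) [Group E] (P : CExt E Δ),
      ∃ τ : Δ →* E, P.p.comp τ = MonoidHom.id Δ)
    (G₁ E : Type u) [Group G₁] [Group E] (π : E →* G₁) (hπ : Function.Surjective π)
    (hc : π.ker ≤ Subgroup.center E) (σ : Δ →* G₁) : ∃ τ : Δ →* E, π.comp τ = σ := by
  obtain ⟨τ, hτ⟩ := hsplit (CfsgLib.SchurCover.fibre σ π)
    ⟨CfsgLib.SchurCover.fibreFst σ π, CfsgLib.SchurCover.fibreFst_surjective σ hπ,
      CfsgLib.SchurCover.ker_fibreFst_le_center σ hc⟩
  refine ⟨(CfsgLib.SchurCover.fibreSnd σ π).comp τ, MonoidHom.ext fun g => ?_⟩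
  rw [MonoidHom.comp_apply, MonoidHom.comp_apply, ← CfsgLib.SchurCover.fibre_rel]
  exact congrArg σ (DFunLike.congr_fun hτ g)

/-- The lifting property from the simply laced checks. -/
theorem liftsExt_of_checks [Finite F] (C : ChevCore D F) (hadj : Cover.HasNeighbours D)
    {W : List (List (ℕ × ℕ × ℕ))} {Z : List RootCert} (hl : lacedB D = true)
    (hs : shapeB D = true) (hw : witCheck D W = true) (hz : decompCheck D Z = true)
    (e : D.SteinbergCover F ≃* D.SteinbergGroup F) : LiftsExt C := by
  refine liftsExt_of_equiv C e (exists_lift_of_split fun E _ P => ?_)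
  let S : Laced C E (D.SteinbergCover F) :=
    { G := presented C
      P := P
      hadj := hadj
      hlaced := hl
      hshape := hs
      hfree := fun i s h => Or.inl (by
        simp only [witCheck, List.all_eq_true, List.mem_finRange, true_implies, List.mem_range,
          Bool.or_eq_true, List.any_eq_true, Bool.and_eq_true, Bool.not_eq_true'] at hw
        obtain ⟨x, -, -, hx⟩ := (hw i s s.isLt).resolve_left (by simp [h])
        exact ⟨_, _, hx⟩)
      hdec := fun i => by
        simp only [decompCheck, List.all_eq_true, List.mem_finRange, true_implies] at hz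
        exact ⟨_, hz i⟩ }
  exact exists_section_laced S rfl

/-- The data of the types E6, E7, E8. -/
theorem exists_E_data [Finite F] (hD : D ∈ [chevE6, chevE7, chevE8]) :
    ∃ C : ChevCore D F, Cover.HasNeighbours D ∧ LiftsExt C ∧
      commutator (D.SteinbergGroup F) = ⊤ := by
  have hD' : D ∈ [chevG2, chevB2, chevD4, chevF4, chevE6, chevE7, chevE8] :=
    List.mem_cons_of_mem _ (List.mem_cons_of_mem _ (List.mem_cons_of_mem _
      (List.mem_cons_of_mem _ hD)))
  obtain ⟨C, hη⟩ := exists_core_etaNeg hD' F
  have hadj := hasNeighbours hD'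
  obtain ⟨e, -⟩ := exists_cover_equiv C hη hadj
  refine ⟨C, hadj, ?_⟩
  simp only [List.mem_cons, List.not_mem_nil, or_false] at hD
  rcases hD with rfl | rfl | rfl
  · exact ⟨liftsExt_of_checks C hadj lacedE6 shapeE6 witCheckE6 decompCheckE6 e,
      perfect_of_equiv e (CfsgLib.SteinbergPerfect.perfect_of_cert _ (by simp)
        CfsgLib.SteinbergPerfect.check_E6)⟩
  · exact ⟨liftsExt_of_checks C hadj lacedE7 shapeE7 witCheckE7 decompCheckE7 e,
      perfect_of_equiv e (CfsgLib.SteinbergPerfect.perfect_of_cert _ (by simp)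
        CfsgLib.SteinbergPerfect.check_E7)⟩
  · exact ⟨liftsExt_of_checks C hadj lacedE8 shapeE8 witCheckE8 decompCheckE8 e,
      perfect_of_equiv e (CfsgLib.SteinbergPerfect.perfect_of_cert _ (by simp)
        CfsgLib.SteinbergPerfect.check_E8)⟩

end CfsgLib.ChevMult
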