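import Cfsg.Agent.Lib.ChevMult.CentralExt
import Cfsg.Agent.Lib.ChevCover.Torus
import Cfsg.Agent.Lib.ChevCover.Instance

/-!
Splitting of central extensions of the group presented by (R1), (R2) for simply laced types,
including the smallest fields: lifts of root elements are defined as commutators.
-/

set_option autoImplicit false

namespace CfsgLib.ChevMult

open Cfsg.Lie CfsgLib.ChevStr CfsgLib.ChevCover
open scoped MatrixGroups commutatorElement

/-- `a` is `s` or commutes with it by the commutator formula. -/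
def freeB (D : ChevalleyDatum) (s a : ℕ) : Bool :=
  Nat.beq a s || (!Nat.beq a (D.neg s) && (D.commTerms s a).isEmpty)

/-- The commutator formula of `(a, b)` has the single term `r` with a unit coefficient. -/
def singleB (D : ChevalleyDatum) (a b r : ℕ) : Bool :=
  decide (a < D.nroots) && decide (b < D.nroots) && decide (r < D.nroots) && !Nat.beq b a &&
    !Nat.beq b (D.neg a) && freeB D a r && freeB D b r &&
    match D.commTerms a b with
    | [(k, c, 1, 1)] => Nat.beq k r && decide (c.natAbs = 1)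
    | _ => false

/-- A step adding a decomposition: a reversal, or a move `(a, b) ↔ (c, e)` through `d`. -/
inductive Step
  | swap (a b : ℕ)
  | move (back : Bool) (a b c d e : ℕ)

/-- The conditions of a move. -/
def moveB (D : ChevalleyDatum) (r a b c d e : ℕ) : Bool :=
  singleB D a b r && singleB D c d a && singleB D d b e && singleB D c e r &&
    freeB D b c && freeB D e a

/-- The decompositions reached by a list of steps. -/
def runSteps (D : ChevalleyDatum) (r : ℕ) : List Step → List (ℕ × ℕ) → List (ℕ × ℕ)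
  | [], known => known
  | .swap a b :: L, known =>
    if known.contains (a, b) && singleB D a b r && singleB D b a r then
      runSteps D r L ((b, a) :: known) else []
  | .move back a b c d e :: L, known =>
    if moveB D r a b c d e && known.contains (if back then (c, e) else (a, b)) then
      runSteps D r L ((if back then (a, b) else (c, e)) :: known) else []

/-- The certificate for one fundamental root: a balancing move and the further steps. -/
structure RootCert where
  /-- The data `a, b, c, d, e` of the balancing move. -/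
  start : ℕ × ℕ × ℕ × ℕ × ℕ
  /-- The further steps. -/
  steps : List Step

/-- The check of a certificate. -/
def decompB (D : ChevalleyDatum) (i : Fin D.rank) (Z : RootCert) : Bool :=
  match Z.start with
  | (a, b, c, d, e) =>
    moveB D (D.simple i.val) a b c d e &&
    let K := runSteps D (D.simple i.val) Z.steps [(a, b)]
    (List.range D.nroots).all fun x => decide (D.cartan i.val x ≠ 1) ||
      (List.range D.nroots).all fun y => decide (D.cartan i.val y ≠ 1) ||
        ((List.finRange D.rank).any fun k =>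
          decide (D.cartan k.val x + D.cartan k.val y ≠ D.cartan k.val (D.simple i.val))) ||
        K.contains (x, y)

/-- Cartan integers off `±p_i` are at most one. -/
def lacedB (D : ChevalleyDatum) : Bool :=
  (List.finRange D.rank).all fun i => (List.range D.nroots).all fun x =>
    Nat.beq x (D.simple i.val) || decide (D.cartan i.val x ≤ 1)

/-- Each root against a fundamental root: opposite, commuting, or with a unit commutator. -/
def shapeB (D : ChevalleyDatum) : Bool :=
  (List.finRange D.rank).all fun i => (List.range D.nroots).all fun s =>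
    Nat.beq s (D.neg (D.simple i.val)) || freeB D (D.simple i.val) s ||
      match D.commTerms (D.simple i.val) s with
      | [(k, _, _, _)] => singleB D (D.simple i.val) s k
      | _ => false

/-- A pair of roots both commuting with `s`, decomposing `p_i`. -/
def witB (D : ChevalleyDatum) (i : Fin D.rank) (s a b : ℕ) : Bool :=
  singleB D a b (D.simple i.val) && freeB D s a && freeB D s b

variable {D : ChevalleyDatum} {F : Type*} [Field F]

/-- The data needed. -/
structure Laced (C : ChevCore D F) (E Γ : Type*) [Group E] [Group Γ] where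
  G : Cover C Γ
  P : CExt E Γ
  hadj : Cover.HasNeighbours D
  hlaced : lacedB D = true
  hshape : shapeB D = true
  hfree : ∀ (i : Fin D.rank) (s : Fin D.nroots), freeB D (D.simple i.val) s = true →
    (∃ a b, witB D i s a b = true) ∨
      ∀ t u : F, P.cm (G.X (D.simple i.val) t) (G.X s u) = 1
  hdec : ∀ i : Fin D.rank, ∃ Z, decompB D i Z = true

namespace Laced

variable {C : ChevCore D F} {E Γ : Type*} [Group E] [Group Γ] (S : Laced C E Γ)

/-- The root elements commute in the cover. -/
def Com (r s : Fin D.nroots) : Prop :=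
  s ≠ S.G.negF r ∧ ∀ t u, S.G.X r t * S.G.X s u = S.G.X s u * S.G.X r t

theorem com_of_freeB {r s : Fin D.nroots} (h : freeB D r s = true) : S.Com r s := by
  simp only [freeB, Bool.or_eq_true, Bool.and_eq_true, Bool.not_eq_true', Nat.beq_eq,
    Bool.eq_false_iff, ne_eq, List.isEmpty_iff] at h
  rcases h with h | ⟨h1, h2⟩
  · obtain rfl : s = r := Fin.ext h
    exact ⟨fun e => C.R.neg_ne s s.isLt (congrArg Fin.val e).symm, fun t u => by
      rw [S.G.X_add s s.isLt, S.G.X_add s s.isLt, add_comm]⟩
  · refine ⟨fun e => h1 (congrArg Fin.val e), fun t u => ?_⟩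
    by_cases hsr : (s : ℕ) = r
    · rw [hsr, S.G.X_add r r.isLt, S.G.X_add r r.isLt, add_comm]
    have := S.G.X_comm r r.isLt s s.isLt hsr h1 t u
    simp only [ChevalleyDatum.commWord, h2, List.map_nil, List.prod_nil, mul_one] at this
    exact this.symm

theorem com_symm {r s : Fin D.nroots} (h : S.Com r s) : S.Com s r :=
  ⟨fun e => h.1 (by rw [e, S.G.negF_negF]), fun t u => (h.2 u t).symm⟩

/-- A single term of the commutator formula as a commutator. -/
theorem single_spec {a b r : ℕ} (h : singleB D a b r = true) :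
    ∃ (ha : a < D.nroots) (hb : b < D.nroots) (hr : r < D.nroots),
      S.Com ⟨a, ha⟩ ⟨r, hr⟩ ∧ S.Com ⟨b, hb⟩ ⟨r, hr⟩ ∧
      ∃ k : F, k * k = 1 ∧ ∀ t u, ⁅S.G.X b u, S.G.X a t⁆ = S.G.X r (k * t * u) := by
  simp only [singleB, Bool.and_eq_true, decide_eq_true_eq, Bool.not_eq_true', Bool.eq_false_iff,
    ne_eq, Nat.beq_eq] at h
  obtain ⟨⟨⟨⟨⟨⟨⟨ha, hb⟩, hr⟩, hba⟩, hbn⟩, hfa⟩, hfb⟩, hm⟩ := h
  obtain ⟨c, hc, hcu⟩ : ∃ c : ℤ, D.commTerms a b = [(r, c, 1, 1)] ∧ c.natAbs = 1 := by
    split at hm
    · next k c heq =>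
      simp only [Bool.and_eq_true, Nat.beq_eq, decide_eq_true_eq] at hm
      exact ⟨c, by rw [heq, hm.1], hm.2⟩
    · simp at hm
  have hA := S.com_of_freeB (r := ⟨a, ha⟩) (s := ⟨r, hr⟩) hfa
  have hB := S.com_of_freeB (r := ⟨b, hb⟩) (s := ⟨r, hr⟩) hfb
  refine ⟨ha, hb, hr, hA, hB, -(c : F), ?_, fun t u => ?_⟩
  · rcases Int.natAbs_eq c with h | h <;> rw [h, hcu] <;> simp
  have := S.G.X_comm a ha b hb hba hbn t u
  simp only [ChevalleyDatum.commWord, hc, List.map_cons, List.map_nil, List.prod_cons,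
    List.prod_nil, mul_one, pow_one] at this
  rw [commutatorElement_def, this, show (c : F) * -t * u = -(c : F) * t * u by ring]
  calc S.G.X a t * S.G.X b u * S.G.X r (-(c : F) * t * u) * (S.G.X b u)⁻¹ * (S.G.X a t)⁻¹
      = S.G.X a t * (S.G.X b u * S.G.X r (-(c : F) * t * u) * (S.G.X b u)⁻¹) *
        (S.G.X a t)⁻¹ := by group
    _ = _ := by rw [hB.2, mul_inv_cancel_right, hA.2, mul_inv_cancel_right]

theorem k_surj {k : F} (hk : k * k = 1) (v : F) : k * (k * v) = v := by rw [← mul_assoc, hk, one_mul]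

theorem cm_simple (i : Fin D.rank) {s : Fin D.nroots} (h : S.Com (C.pRoot i) s) (t u : F) :
    S.P.cm (S.G.X (C.pRoot i) t) (S.G.X s u) = 1 := by
  have hs := S.hshape
  simp only [shapeB, List.all_eq_true, List.mem_finRange, true_implies, List.mem_range,
    Bool.or_eq_true, Nat.beq_eq] at hs
  rcases hs i s s.isLt with (h1 | h1) | h1
  · exact absurd (Fin.ext h1) h.1
  · rcases S.hfree i s h1 with ⟨a, b, hw⟩ | hw
    · simp only [witB, Bool.and_eq_true] at hw
      obtain ⟨ha, hb, -, -, -, k, hk, hk'⟩ := S.single_spec hw.1.1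
      have hsa := S.com_of_freeB (r := s) (s := ⟨a, ha⟩) hw.1.2
      have hsb := S.com_of_freeB (r := s) (s := ⟨b, hb⟩) hw.2
      rw [← S.P.cm_inv]
      have e : S.G.X (C.pRoot i) t = ⁅S.G.X b 1, S.G.X a (k * t)⁆ := by
        rw [hk', mul_one, k_surj hk]; rfl
      rw [e, S.P.cm_comm_right (hsb.2 u 1) (hsa.2 u (k * t)), inv_one]
    · exact hw t u
  · exfalso
    split at h1
    · next k' _ _ _ _ =>
      obtain ⟨_, _, hk', -, -, k, hk, hk2⟩ := S.single_spec h1
      have := hk2 1 1
      have h0 : ⁅S.G.X s 1, S.G.X (D.simple i.val) 1⁆ = 1 :=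
        commutatorElement_eq_one_iff_mul_comm.2 (h.2 1 1).symm
      rw [h0, mul_one, mul_one,
        ← S.G.X_zero ⟨k', hk'⟩] at this
      have := S.G.X_injective ⟨k', hk'⟩ this
      rw [← this, mul_zero] at hk
      exact zero_ne_one hk
    · simp at h1

/-- Monomial elements moving a root to a fundamental one. -/
theorem exists_mover (r : Fin D.nroots) :
    ∃ (w : Equiv.Perm (Fin D.nroots)) (_ : w ∈ C.hR.weyl) (i : Fin D.rank) (n : Γ),
      w (C.pRoot i) = r ∧ n ∈ S.G.mono ∧ S.G.Nice n w ∧ S.G.Nice n⁻¹ w⁻¹ := by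
  obtain ⟨w, hw, i, hi⟩ := C.exists_simple_image r
  obtain ⟨n, hn, hv⟩ := S.G.exists_mono_rep S.hadj hw
  obtain ⟨v, hv1, hv2⟩ := S.G.exists_nice S.hadj hn
  rw [ChevCore.Moves.unique C (Cover.Nice.moves S.G hv1) (Cover.Nice.moves S.G hv)] at hv2
  exact ⟨w, hw, i, n, hi, hn, hv, hv2⟩

theorem exists_preimage {n : Γ} (hn : n ∈ S.G.mono) {v : Equiv.Perm (Fin D.nroots)}
    (hv : S.G.Nice n v) (s : Fin D.nroots) (t : F) :
    ∃ t', n * S.G.X s t' * n⁻¹ = S.G.X (v s) t := by
  obtain ⟨a, ha, h1, -⟩ := S.G.exists_coeff S.hadj hn hv s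
  exact ⟨t / a, by rw [h1, mul_div_cancel₀ t ha]⟩

theorem cm_com {r s : Fin D.nroots} (h : S.Com r s) (t u : F) :
    S.P.cm (S.G.X r t) (S.G.X s u) = 1 := by
  obtain ⟨w, hw, i, n, hi, hn, hv, hv'⟩ := S.exists_mover r
  obtain ⟨s', rfl⟩ := w.surjective s
  subst hi
  have hcom : S.Com (C.pRoot i) s' := by
    refine ⟨fun e => h.1 (by rw [e, S.G.weyl_negF hw]), fun a b => ?_⟩
    obtain ⟨a', ha⟩ := hv.2 (C.pRoot i) a
    obtain ⟨b', hb⟩ := hv.2 s' b
    refine (MulAut.conj n).injective ?_
    simp only [map_mul, MulAut.conj_apply, ha, hb, h.2 a' b']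
  obtain ⟨t', ht⟩ := S.exists_preimage hn hv (C.pRoot i) t
  obtain ⟨u', hu⟩ := S.exists_preimage hn hv s' u
  have h1 := S.P.conj_cm (S.P.lift n) (S.G.X (C.pRoot i) t') (S.G.X s' u')
  rw [S.P.p_lift, ht, hu, S.cm_simple i hcom, mul_one, mul_inv_cancel] at h1
  exact h1.symm

theorem lift_commute {r s : Fin D.nroots} (h : S.Com r s) {x y : E} {t u : F}
    (hx : S.P.p x = S.G.X r t) (hy : S.P.p y = S.G.X s u) : x * y = y * x :=
  S.P.commute_of_cm hx hy (S.cm_com h t u)

/-- The transfer between two decompositions. -/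
theorem move_eq {r a b c d e : ℕ} (h : moveB D r a b c d e = true) :
    ∃ k l : F, k * k = 1 ∧ l * l = 1 ∧ ∀ w v u,
      S.P.cm (S.G.X b u) (S.G.X a (k * w * v)) = S.P.cm (S.G.X e (l * v * u)) (S.G.X c w) := by
  simp only [moveB, Bool.and_eq_true] at h
  obtain ⟨⟨⟨⟨⟨h0, h1⟩, h2⟩, -⟩, hbc⟩, hea⟩ := h
  obtain ⟨ha, hb, hr, har, -, j, -, hj'⟩ := S.single_spec h0
  obtain ⟨hc, hd, -, -, -, k, hk, hk'⟩ := S.single_spec h1
  obtain ⟨-, -, he, -, -, l, hl, hl'⟩ := S.single_spec h2
  refine ⟨k, l, hk, hl, fun w v u => ?_⟩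
  set x := S.P.lift (S.G.X c w)
  set z := S.P.lift (S.G.X d v)
  set y := S.P.lift (S.G.X b u)
  set m := ⁅z, x⁆ with hm
  set n := ⁅y, z⁆ with hn
  have hpm : S.P.p m = S.G.X a (k * w * v) := by
    rw [hm, map_commutatorElement, S.P.p_lift, S.P.p_lift, hk']
  have hpn : S.P.p n = S.G.X e (l * v * u) := by
    rw [hn, map_commutatorElement, S.P.p_lift, S.P.p_lift, hl']
  rw [S.P.cm_eq (x := y) (y := m) (S.P.p_lift _) hpm, S.P.cm_eq (x := n) (y := x) hpn (S.P.p_lift _)]
  have h3 : y * x = x * y := S.lift_commute (r := ⟨b, hb⟩) (s := ⟨c, hc⟩)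
    (S.com_of_freeB hbc) (S.P.p_lift _) (S.P.p_lift _)
  have h4 : n * m = m * n := S.lift_commute (r := ⟨e, he⟩) (s := ⟨a, ha⟩)
    (S.com_of_freeB hea) hpn hpm
  have h5 : y * m * y⁻¹ = m * ⁅n, x⁆ := by
    have e2 : y * z * y⁻¹ = n * z := by rw [hn, commutatorElement_def]; group
    have e3 : y * x * y⁻¹ = x := by rw [h3, mul_inv_cancel_right]
    calc y * m * y⁻¹ = ⁅y * z * y⁻¹, y * x * y⁻¹⁆ := by
          rw [hm, commutatorElement_def, commutatorElement_def]; group
      _ = n * m * n⁻¹ * ⁅n, x⁆ := by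
          rw [e2, e3, hm, commutatorElement_def, commutatorElement_def, commutatorElement_def]
          group
      _ = _ := by rw [h4, mul_inv_cancel_right]
  have h6 : m * ⁅n, x⁆ = ⁅n, x⁆ * m := by
    have hpq : S.P.p ⁅n, x⁆ = S.G.X r (j * (k * w * v) * u) := by
      have := congrArg S.P.p h5
      rw [map_mul, map_mul, map_mul, map_inv, S.P.p_lift, hpm] at this
      have e5 := hj' (k * w * v) u
      rw [commutatorElement_def, this, mul_assoc] at e5
      have hc1 : S.G.X a (k * w * v) * S.G.X r (j * (k * w * v) * u) =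
          S.G.X r (j * (k * w * v) * u) * S.G.X a (k * w * v) := har.2 _ _
      refine mul_left_cancel (a := S.G.X a (k * w * v)) ?_
      rw [hc1]
      calc S.G.X a (k * w * v) * S.P.p ⁅n, x⁆
          = S.G.X a (k * w * v) * (S.P.p ⁅n, x⁆ * (S.G.X a (k * w * v))⁻¹) *
              S.G.X a (k * w * v) := by group
        _ = _ := by rw [e5]
    exact S.lift_commute har hpm hpq
  rw [commutatorElement_def y m, h5, h6, mul_inv_cancel_right]

/-- `g` lifts `x_r` additively and agrees with all commutators of decompositions of `r`. -/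
def IsLift (r : Fin D.nroots) (g : F → E) : Prop :=
  (∀ v, S.P.p (g v) = S.G.X r v) ∧ (∀ v v', g (v + v') = g v * g v') ∧
    ∀ a b : Fin D.nroots, C.R.α r = C.R.α a + C.R.α b → ∀ t u v,
      ⁅S.G.X b u, S.G.X a t⁆ = S.G.X r v → S.P.cm (S.G.X b u) (S.G.X a t) = g v

theorem cartan_add {x y z : ℕ} (hx : x < D.nroots) (hy : y < D.nroots) (hz : z < D.nroots)
    (h : C.R.α z = C.R.α x + C.R.α y) (k : Fin D.rank) :
    D.cartan k.val z = D.cartan k.val x + D.cartan k.val y := by
  rw [C.R.cartan_sum k hx, C.R.cartan_sum k hy, C.R.cartan_sum k hz, h, map_add]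

theorem α_ne_zero {x : ℕ} (hx : x < D.nroots) : C.R.α x ≠ 0 := fun h =>
  C.R.neg_ne x hx (C.R.α_inj (C.R.neg_lt x hx) hx (by rw [C.R.α_neg x hx, h, neg_zero]))

include S in
theorem cartan_le {i : Fin D.rank} {x : Fin D.nroots} (h : x ≠ C.pRoot i) :
    D.cartan i.val x ≤ 1 := by
  have hl := S.hlaced
  simp only [lacedB, List.all_eq_true, List.mem_finRange, true_implies, List.mem_range,
    Bool.or_eq_true, Nat.beq_eq, decide_eq_true_eq] at hl
  exact (hl i x x.isLt).resolve_left fun e => h (Fin.ext e)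

theorem exists_lift_simple (i : Fin D.rank) : ∃ g, S.IsLift (C.pRoot i) g := by
  obtain ⟨⟨⟨a, b, c, d, e⟩, steps⟩, hZ⟩ := S.hdec i
  simp only [decompB, Bool.and_eq_true] at hZ
  obtain ⟨hmove, hcov⟩ := hZ
  set r := D.simple i.val with hr
  have hab : singleB D a b r = true := by
    simp only [moveB, Bool.and_eq_true] at hmove; exact hmove.1.1.1.1.1
  obtain ⟨ha, hb, hrn, har, -, k0, hk0, hk0'⟩ := S.single_spec hab
  obtain ⟨k, l, hk, hl, hmv⟩ := S.move_eq hmove
  set g : F → E := fun v => S.P.cm (S.G.X b 1) (S.G.X a (k0 * v)) with hg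
  have hbal : ∀ t u, S.P.cm (S.G.X b u) (S.G.X a t) = S.P.cm (S.G.X b 1) (S.G.X a (t * u)) := by
    intro t u
    have h1 := hmv (k * t) 1 u
    have h2 := hmv (k * t) u 1
    rw [k_surj hk, mul_one, mul_one] at h1
    rw [k_surj hk, mul_one] at h2
    rw [h1, h2]
  have hpg : ∀ v, S.P.p (g v) = S.G.X r v := fun v => by
    rw [hg, S.P.p_cm, hk0', k_surj hk0, mul_one]
  have hadd : ∀ v v', g (v + v') = g v * g v' := by
    intro v v'
    simp only [hg, mul_add]
    rw [← S.G.X_add a ha, S.P.cm_mul_right (S.P.p_lift _)]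
    congr 1
    rw [S.lift_commute har (S.P.p_lift _) (hpg v'), mul_inv_cancel_right]
  let Good : ℕ × ℕ → Prop := fun p => ∀ t u v, ⁅S.G.X p.2 u, S.G.X p.1 t⁆ = S.G.X r v →
    S.P.cm (S.G.X p.2 u) (S.G.X p.1 t) = g v
  have hinj : ∀ v v' : F, S.G.X r v = S.G.X r v' → v = v' := fun v v' h =>
    S.G.X_injective ⟨r, hrn⟩ h
  have hroot : Good (a, b) := by
    intro t u v hv
    rw [hbal, hg]
    rw [hk0'] at hv
    have := hinj _ _ hv
    show _ = S.P.cm (S.G.X b 1) (S.G.X a (k0 * v))
    rw [show k0 * v = t * u by rw [← this, mul_assoc, k_surj hk0]]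
  have hrun : ∀ (L : List Step) (known : List (ℕ × ℕ)), (∀ p ∈ known, Good p) →
      ∀ p ∈ runSteps D r L known, Good p := by
    intro L
    induction L with
    | nil => exact fun known h => h
    | cons st L ih =>
      intro known hK p hp
      cases st with
      | swap a' b' =>
        simp only [runSteps] at hp
        split at hp
        swap
        · simp at hp
        next hc =>
        simp only [Bool.and_eq_true, List.contains_iff_mem] at hc
        refine ih _ ?_ p hp
        intro q hq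
        rcases List.mem_cons.1 hq with rfl | hq
        · intro t u v hv
          have h1 : ⁅S.G.X b' t, S.G.X a' u⁆ = S.G.X r (-v) := by
            rw [← commutatorElement_inv, hv]
            exact S.G.X_inv ⟨r, hrn⟩ v
          have h2 := hK _ hc.1.1 u t (-v) h1
          rw [← S.P.cm_inv, h2]
          refine inv_eq_of_mul_eq_one_right ?_
          rw [← hadd, neg_add_cancel]
          have h0 := hadd 0 0
          rwa [add_zero, left_eq_mul] at h0
        · exact hK q hq
      | move back a' b' c' d' e' =>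
        simp only [runSteps] at hp
        by_cases hc : moveB D r a' b' c' d' e' = true ∧
            (if back then (c', e') else (a', b')) ∈ known
        swap
        · rw [if_neg (by simpa [Bool.and_eq_true, List.contains_iff_mem] using hc)] at hp
          simp at hp
        rw [if_pos (by simpa [Bool.and_eq_true, List.contains_iff_mem] using hc)] at hp
        refine ih _ ?_ p hp
        obtain ⟨k', l', hk', hl', hmv'⟩ := S.move_eq hc.1
        intro q hq
        rcases List.mem_cons.1 hq with rfl | hq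
        · cases back with
          | true =>
            intro t u v hv
            have h1 := hmv' (k' * t) 1 u
            rw [k_surj hk', mul_one, mul_one] at h1
            have hp1 := congrArg S.P.p h1
            rw [S.P.p_cm, S.P.p_cm] at hp1
            exact h1.trans (hK _ hc.2 _ _ v (hp1.symm.trans hv))
          | false =>
            intro t u v hv
            have h1 := hmv' t 1 (l' * u)
            rw [mul_one, mul_one, k_surj hl'] at h1
            have hp1 := congrArg S.P.p h1
            rw [S.P.p_cm, S.P.p_cm] at hp1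
            exact h1.symm.trans (hK _ hc.2 _ _ v (hp1.trans hv))
        · exact hK q hq
  refine ⟨g, hpg, hadd, fun x y hxy t u v hv => ?_⟩
  have hx : x ≠ C.pRoot i := fun h => α_ne_zero (C := C) y.isLt (by simpa [h] using hxy)
  have hy : y ≠ C.pRoot i := fun h => α_ne_zero (C := C) x.isLt (by simpa [h] using hxy)
  have hsum := cartan_add (C := C) x.isLt y.isLt (C.pRoot i).isLt hxy
  have h2 : D.cartan i.val (C.pRoot i) = 2 := C.hR.cartan_self i
  have h3 := S.cartan_le hx
  have h4 := S.cartan_le hy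
  have h5 := hsum i
  simp only [List.all_eq_true, List.mem_range, Bool.or_eq_true, decide_eq_true_eq,
    List.any_eq_true, List.contains_iff_mem] at hcov
  have h6 := ((hcov x x.isLt).resolve_left (by omega)) y y.isLt
  have hmem : ((x : ℕ), (y : ℕ)) ∈ runSteps D r steps [(a, b)] := by
    rcases h6 with (h6 | ⟨k', -, h6⟩) | h6
    · omega
    · exact absurd (hsum k').symm h6
    · exact h6
  exact hrun steps [(a, b)] (fun p hp => by rw [List.mem_singleton.1 hp]; exact hroot) _ hmem t u v hv

theorem exists_lift (r : Fin D.nroots) : ∃ g, S.IsLift r g := by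
  obtain ⟨w, hw, i, n, hi, hn, hv, -⟩ := S.exists_mover r
  obtain ⟨g, hg1, hg2, hg3⟩ := S.exists_lift_simple i
  obtain ⟨a, ha, hX, -⟩ := S.G.exists_coeff S.hadj hn hv (C.pRoot i)
  set e := S.P.lift n
  refine ⟨fun v => e * g (v / a) * e⁻¹, fun v => ?_, fun v v' => ?_, fun x y hxy t u v hv' => ?_⟩
  · rw [map_mul, map_mul, map_inv, S.P.p_lift, hg1, hX, hi, mul_div_cancel₀ v ha]
  · simp only [add_div, hg2]; group
  · obtain ⟨x', rfl⟩ := w.surjective x
    obtain ⟨y', rfl⟩ := w.surjective y
    obtain ⟨t', ht⟩ := S.exists_preimage hn hv x' t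
    obtain ⟨u', hu⟩ := S.exists_preimage hn hv y' u
    have hα : C.R.α (C.pRoot i) = C.R.α x' + C.R.α y' := by
      have := C.hR.combo_weyl (inv_mem hw) (k := r) (r := w x') (s := w y') (a := 1) (b := 1)
        (by rw [hxy]; simp)
      simpa [← hi] using this
    have hv2 : ⁅S.G.X y' u', S.G.X x' t'⁆ = S.G.X (C.pRoot i) (v / a) := by
      refine (MulAut.conj n).injective ?_
      rw [map_commutatorElement, MulAut.conj_apply, MulAut.conj_apply, MulAut.conj_apply, ht, hu,
        hv', hX, hi, mul_div_cancel₀ v ha]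
    have h1 := S.P.conj_cm e (S.G.X y' u') (S.G.X x' t')
    rw [S.P.p_lift, ht, hu, hg3 x' y' hα t' u' _ hv2] at h1
    exact h1.symm

/-- The lift of `x_r(t)`. -/
noncomputable def y (r : Fin D.nroots) : F → E := (S.exists_lift r).choose

theorem p_y (r : Fin D.nroots) (t : F) : S.P.p (S.y r t) = S.G.X r t :=
  (S.exists_lift r).choose_spec.1 t

theorem y_add (r : Fin D.nroots) (t u : F) : S.y r t * S.y r u = S.y r (t + u) :=
  ((S.exists_lift r).choose_spec.2.1 t u).symm

theorem y_zero (r : Fin D.nroots) : S.y r 0 = 1 := by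
  have := S.y_add r 0 0
  rwa [add_zero, mul_eq_left] at this

theorem y_inv (r : Fin D.nroots) (t : F) : (S.y r t)⁻¹ = S.y r (-t) :=
  inv_eq_of_mul_eq_one_right (by rw [S.y_add, add_neg_cancel, S.y_zero])

/-- The lifts indexed by natural numbers. -/
noncomputable def yN (r : ℕ) (t : F) : E := if h : r < D.nroots then S.y ⟨r, h⟩ t else 1

include S in
/-- For each root a functional with value `2` there and at most `1` on the other roots. -/
theorem exists_functional (x : Fin D.nroots) :
    ∃ f : (Fin D.rank → ℤ) →+ ℤ, f (C.R.α x) = 2 ∧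
      ∀ z : Fin D.nroots, z ≠ x → f (C.R.α z) ≤ 1 := by
  obtain ⟨w, hw, i, hi⟩ := C.exists_simple_image x
  change w (C.pRoot i) = x at hi
  have key : ∀ f₀ : (Fin D.rank → ℤ) →+ ℤ, ∃ f : (Fin D.rank → ℤ) →+ ℤ,
      ∀ z : Fin D.nroots, f (C.R.α (w z)) = f₀ (C.R.α z) := by
    refine C.hR.weyl_induction (P := fun w => ∀ f₀ : (Fin D.rank → ℤ) →+ ℤ,
      ∃ f : (Fin D.rank → ℤ) →+ ℤ, ∀ z : Fin D.nroots, f (C.R.α (w z)) = f₀ (C.R.α z))
      (fun f₀ => ⟨f₀, fun z => rfl⟩) ?_ w hw
    intro v _ j ih f₀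
    obtain ⟨f, hf⟩ := ih (f₀ - (zmultiplesHom ℤ (f₀ (Pi.single j 1))).comp
      (pairing fun k => D.cartan j.val (D.simple k.val)))
    refine ⟨f, fun z => ?_⟩
    rw [Equiv.Perm.mul_apply, hf]
    simp only [AddMonoidHom.sub_apply, AddMonoidHom.comp_apply, zmultiplesHom_apply,
      ReflData.sPerm_val, C.hR.α_refl j z.val z.isLt, map_sub, map_zsmul, smul_eq_mul,
      pairing_single, ← C.R.cartan_sum j z.isLt, C.hR.cartan_self j]
    ring
  obtain ⟨f, hf⟩ := key (pairing fun k => D.cartan i.val (D.simple k.val))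
  refine ⟨f, ?_, fun z hz => ?_⟩
  · rw [← hi, hf, ← C.R.cartan_sum i (C.pRoot i).isLt]
    exact C.hR.cartan_self i
  · obtain ⟨z', rfl⟩ := w.surjective z
    rw [hf, ← C.R.cartan_sum i z'.isLt]
    exact S.cartan_le fun h => hz (by rw [h]; exact hi)

include S in
/-- The terms of a commutator formula of a simply laced type are sums of the two roots. -/
theorem α_term {r s : Fin D.nroots} {c : ℕ × ℤ × ℕ × ℕ}
    (hc : c ∈ D.commTerms r s) (hsr : s ≠ r) (hsn : s ≠ S.G.negF r) :
    C.R.α c.1 = C.R.α r + C.R.α s := by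
  obtain ⟨hk, ha, hb, hab⟩ := C.R.commTerms_spec hc
  obtain ⟨f, hfr, hf⟩ := S.exists_functional r
  obtain ⟨g, hgs, hg⟩ := S.exists_functional s
  set A := c.2.2.1
  set B := c.2.2.2
  have hnegα : ∀ z : Fin D.nroots, C.R.α (S.G.negF z : Fin D.nroots) = - C.R.α z :=
    fun z => C.R.α_neg z z.isLt
  set p := f (C.R.α s)
  set q := g (C.R.α r)
  have hp : -1 ≤ p := by
    have := hf (S.G.negF s) fun h => hsn (by rw [← h, S.G.negF_negF])
    rw [hnegα, map_neg] at this; omega
  have hq : -1 ≤ q := by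
    have := hg (S.G.negF r) hsn.symm
    rw [hnegα, map_neg] at this; omega
  have e1 : f (C.R.α c.1) = 2 * A + B * p := by
    rw [hab, map_add, map_zsmul, map_zsmul, smul_eq_mul, smul_eq_mul, hfr]; ring
  have e2 : g (C.R.α c.1) = A * q + 2 * B := by
    rw [hab, map_add, map_zsmul, map_zsmul, smul_eq_mul, smul_eq_mul, hgs]; ring
  have b1 : (B : ℤ) * (-1) ≤ B * p := mul_le_mul_of_nonneg_left hp (by positivity)
  have b2 : (A : ℤ) * (-1) ≤ A * q := mul_le_mul_of_nonneg_left hq (by positivity)
  have hA1 : (1 : ℤ) ≤ A := by exact_mod_cast ha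
  have hB1 : (1 : ℤ) ≤ B := by exact_mod_cast hb
  have hboth : A = 1 ∧ B = 1 := by
    by_cases hkr : (⟨c.1, hk⟩ : Fin D.nroots) = r
    · rw [show C.R.α c.1 = C.R.α r from congrArg (fun z : Fin D.nroots => C.R.α z) hkr] at e1 e2
      have b3 : ((A : ℤ) - 1) * (-1) ≤ (A - 1) * q := mul_le_mul_of_nonneg_left hq (by omega)
      change f (C.R.α r) = _ at e1
      change q = _ at e2
      rw [hfr] at e1
      have : ((A : ℤ) - 1) * q = A * q - q := by ring
      omega
    by_cases hks : (⟨c.1, hk⟩ : Fin D.nroots) = s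
    · rw [show C.R.α c.1 = C.R.α s from congrArg (fun z : Fin D.nroots => C.R.α z) hks] at e1 e2
      have b3 : ((B : ℤ) - 1) * (-1) ≤ (B - 1) * p := mul_le_mul_of_nonneg_left hp (by omega)
      change p = _ at e1
      rw [hgs] at e2
      have : ((B : ℤ) - 1) * p = B * p - p := by ring
      omega
    have h1 := hf _ hkr
    have h2 := hg _ hks
    change f (C.R.α c.1) ≤ 1 at h1
    change g (C.R.α c.1) ≤ 1 at h2
    omega
  rw [hab, hboth.1, hboth.2]
  simp

/-- The lifts satisfy the commutator formula. -/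
theorem rel {r s : Fin D.nroots} (hsr : s ≠ r) (hsn : s ≠ S.G.negF r) (t u : F) :
    S.y s u * S.y r t =
      S.y r t * S.y s u * ((D.commWord F r s t u).map fun p => S.yN p.1 p.2).prod := by
  have hW := S.G.X_comm r r.isLt s s.isLt (fun h => hsr (Fin.ext h))
    (fun h => hsn (Fin.ext h)) t u
  have hcm : ((S.y r t * S.y s u)⁻¹ * (S.y s u * S.y r t)) =
      S.P.cm (S.G.X s (-u)) (S.G.X r (-t)) := by
    rw [S.P.cm_eq (x := S.y s (-u)) (y := S.y r (-t)) (S.p_y s _) (S.p_y r _), ← S.y_inv,
      ← S.y_inv, commutatorElement_def]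
    group
  suffices h : S.P.cm (S.G.X s (-u)) (S.G.X r (-t)) =
      ((D.commWord F r s t u).map fun p => S.yN p.1 p.2).prod by
    rw [← h, ← hcm, mul_inv_cancel_left]
  have hcommX : ⁅S.G.X s (-u), S.G.X r (-t)⁆ =
      ((D.commWord F r s t u).map fun p => S.G.X p.1 p.2).prod := by
    rw [commutatorElement_def, ← S.G.X_inv r, ← S.G.X_inv s, inv_inv, inv_inv,
      mul_assoc _ (S.G.X s u), hW]
    group
  match hL : D.commTerms r s with
  | [] =>
    simp only [ChevalleyDatum.commWord, hL, List.map_nil, List.prod_nil] at hcommX ⊢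
    refine S.cm_com (S.com_symm ⟨hsn, fun a b => ?_⟩) _ _
    have := S.G.X_comm r r.isLt s s.isLt (fun h => hsr (Fin.ext h)) (fun h => hsn (Fin.ext h)) a b
    simp only [ChevalleyDatum.commWord, hL, List.map_nil, List.prod_nil, mul_one] at this
    exact this.symm
  | c₀ :: L =>
    have hmem₀ : c₀ ∈ D.commTerms r s := by rw [hL]; exact List.mem_cons_self ..
    have hk₀ := (C.R.commTerms_spec hmem₀).1
    set k : Fin D.nroots := ⟨c₀.1, hk₀⟩
    have hα : C.R.α k = C.R.α r + C.R.α s := S.α_term hmem₀ hsr hsn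
    have hall : ∀ p ∈ D.commWord F r s t u, p.1 = k := by
      intro p hp
      obtain ⟨c, hc, rfl⟩ := List.mem_map.1 hp
      exact C.R.α_inj (C.R.commTerms_spec hc).1 hk₀ ((S.α_term hc hsr hsn).trans hα.symm)
    have key : ∀ W : List (ℕ × F), (∀ p ∈ W, p.1 = k) →
        (W.map fun p => S.yN p.1 p.2).prod = S.y k (W.map Prod.snd).sum ∧
        (W.map fun p => S.G.X p.1 p.2).prod = S.G.X k (W.map Prod.snd).sum := by
      intro W
      induction W with
      | nil => exact fun _ => ⟨by simp [S.y_zero], by simp [S.G.X_zero]⟩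
      | cons p W ih =>
        intro h
        obtain ⟨i1, i2⟩ := ih fun q hq => h q (List.mem_cons_of_mem _ hq)
        have hp := h p (List.mem_cons_self ..)
        simp only [List.map_cons, List.prod_cons, List.sum_cons]
        rw [i1, i2, hp, yN, dif_pos k.isLt, S.y_add, S.G.X_add k k.isLt]
        exact ⟨rfl, rfl⟩
    obtain ⟨e1, e2⟩ := key _ hall
    rw [e1]
    exact (S.exists_lift k).choose_spec.2.2 r s hα _ _ _ (hcommX.trans e2)

end Laced

/-- Every central extension of the presented group splits. -/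
theorem exists_section_laced {C : ChevCore D F} {E : Type*} [Group E]
    (S : Laced C E (D.SteinbergCover F)) (hG : S.G = presented C) :
    ∃ τ : D.SteinbergCover F →* E, S.P.p.comp τ = MonoidHom.id _ := by
  have hlift : ∀ r t, FreeGroup.lift (fun p : Fin D.nroots × F => S.y p.1 p.2) (D.stX r t) =
      S.yN r t := fun r t => by
    by_cases h : r < D.nroots
    · simp [ChevalleyDatum.stX, dif_pos h, Laced.yN]
    · simp [ChevalleyDatum.stX, dif_neg h, Laced.yN]
  have hrels : ∀ g ∈ D.steinbergRelsAB F,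
      FreeGroup.lift (fun p : Fin D.nroots × F => S.y p.1 p.2) g = 1 := by
    rintro g (⟨r, t, u, hr, rfl⟩ | ⟨r, s, t, u, hr, hs, h1, h2, rfl⟩)
    · simp only [map_mul, map_inv, hlift, mul_inv_eq_one, Laced.yN, dif_pos hr]
      exact S.y_add _ _ _
    · have hrel := S.rel (r := ⟨r, hr⟩) (s := ⟨s, hs⟩) (fun h => h1 (congrArg Fin.val h))
        (fun h => h2 (congrArg Fin.val h)) t u
      have hw : FreeGroup.lift (fun p : Fin D.nroots × F => S.y p.1 p.2)
          (D.stWord (D.commWord F r s t u)) =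
            ((D.commWord F r s t u).map fun p => S.yN p.1 p.2).prod := by
        rw [ChevalleyDatum.stWord, map_list_prod, List.map_map]
        exact congrArg List.prod (List.map_congr_left fun p _ => hlift _ _)
      simp only [map_mul, map_inv, hlift, hw]
      simp only [Laced.yN, dif_pos hr, dif_pos hs] at hrel ⊢
      rw [mul_assoc _ (S.y ⟨s, hs⟩ u), hrel]
      group
  refine ⟨PresentedGroup.toGroup hrels, PresentedGroup.ext fun a => ?_⟩
  rw [MonoidHom.comp_apply, PresentedGroup.toGroup.of, S.p_y, MonoidHom.id_apply, hG]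
  simp [presented, ChevalleyDatum.scGen, ChevalleyDatum.stX, PresentedGroup.of]

end CfsgLib.ChevMult
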