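import Cfsg.Agent.Lib.ChevMult.LacedFast

/-!
Certificates for the simply laced exceptional types.
-/

set_option autoImplicit false
set_option maxRecDepth 100000

namespace CfsgLib.ChevMult

open Cfsg.Lie

/-- Witnesses for pairs commuting with a fundamental root, type E6. -/
def witE6 : List (List (ℕ × ℕ × ℕ)) := [
  [(0, 26, 60), (1, 19, 63), (2, 17, 65), (3, 16, 66), (4, 16, 66), (16, 17, 65), (17, 16, 66), (18, 16, 66), (19, 16, 66), (20, 16, 66), (21, 16, 66), (22, 18, 64), (23, 17, 65), (24, 16, 66), (25, 16, 66), (26, 16, 66), (27, 16, 66), (28, 16, 66), (29, 16, 66), (30, 18, 64), (31, 17, 65), (32, 16, 66), (33, 17, 65), (34, 18, 64), (35, 16, 66), (36, 16, 66), (37, 18, 64), (38, 17, 65), (39, 16, 66), (40, 17, 65), (41, 18, 64), (46, 16, 66), (47, 16, 66), (48, 17, 65), (49, 18, 64), (56, 16, 66), (57, 16, 66), (58, 16, 66), (59, 16, 66), (60, 16, 66), (61, 16, 66), (62, 16, 66), (63, 16, 66), (64, 16, 66), (65, 16, 66), (66, 17, 65), (67, 16, 66), (68, 16, 66), (69, 17, 65), (70, 19, 63), (71, 26, 60)],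
  [(1, 11, 63), (2, 13, 61), (3, 12, 62), (4, 11, 63), (5, 13, 61), (6, 12, 62), (7, 11, 63), (11, 1, 71), (12, 1, 71), (13, 1, 71), (14, 1, 71), (15, 1, 71), (16, 11, 63), (17, 11, 63), (18, 12, 62), (26, 1, 71), (27, 1, 71), (28, 1, 71), (29, 1, 71), (30, 1, 71), (31, 1, 71), (32, 1, 71), (33, 1, 71), (34, 1, 71), (35, 1, 71), (36, 1, 71), (37, 1, 71), (38, 1, 71), (42, 1, 71), (46, 1, 71), (47, 1, 71), (48, 1, 71), (49, 1, 71), (50, 1, 71), (51, 1, 71), (52, 1, 71), (53, 12, 62), (54, 11, 63), (55, 11, 63), (56, 1, 71), (57, 1, 71), (61, 1, 71), (62, 1, 71), (63, 1, 71), (64, 11, 63), (65, 12, 62), (66, 13, 61), (67, 11, 63), (68, 12, 62), (69, 13, 61), (71, 11, 63)],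
  [(0, 15, 57), (1, 15, 57), (5, 6, 68), (6, 5, 69), (7, 5, 69), (8, 7, 67), (9, 6, 68), (10, 5, 69), (11, 7, 67), (12, 6, 68), (13, 5, 69), (15, 5, 69), (16, 6, 68), (17, 5, 69), (18, 5, 69), (22, 5, 69), (23, 5, 69), (24, 5, 69), (25, 5, 69), (30, 5, 69), (31, 5, 69), (32, 5, 69), (33, 6, 68), (34, 7, 67), (35, 5, 69), (36, 5, 69), (37, 7, 67), (38, 6, 68), (42, 5, 69), (43, 5, 69), (44, 5, 69), (45, 5, 69), (46, 5, 69), (50, 5, 69), (51, 5, 69), (52, 5, 69), (53, 5, 69), (54, 5, 69), (55, 6, 68), (57, 5, 69), (58, 5, 69), (59, 6, 68), (60, 7, 67), (61, 5, 69), (62, 6, 68), (63, 7, 67), (67, 5, 69), (68, 5, 69), (69, 6, 68), (70, 15, 57), (71, 15, 57)],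
  [(0, 14, 58), (2, 8, 65), (3, 9, 64), (4, 8, 65), (5, 14, 58), (8, 2, 70), (9, 2, 70), (10, 2, 70), (11, 9, 64), (12, 8, 65), (14, 2, 70), (15, 2, 70), (16, 8, 65), (19, 2, 70), (20, 2, 70), (21, 2, 70), (22, 2, 70), (23, 2, 70), (25, 2, 70), (26, 8, 65), (27, 9, 64), (29, 2, 70), (33, 2, 70), (34, 2, 70), (35, 2, 70), (36, 2, 70), (39, 2, 70), (40, 2, 70), (41, 2, 70), (43, 2, 70), (44, 9, 64), (45, 8, 65), (47, 2, 70), (48, 2, 70), (49, 2, 70), (50, 2, 70), (53, 2, 70), (54, 2, 70), (55, 8, 65), (56, 2, 70), (58, 2, 70), (59, 8, 65), (60, 9, 64), (61, 2, 70), (64, 2, 70), (65, 2, 70), (66, 14, 58), (67, 8, 65), (68, 9, 64), (70, 8, 65), (71, 14, 58)],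
  [(0, 13, 59), (1, 10, 62), (3, 6, 66), (4, 6, 66), (6, 3, 69), (7, 3, 69), (8, 13, 59), (10, 3, 69), (11, 10, 62), (13, 3, 69), (14, 6, 66), (15, 3, 69), (17, 3, 69), (18, 3, 69), (19, 6, 66), (21, 3, 69), (22, 3, 69), (24, 3, 69), (25, 3, 69), (26, 6, 66), (28, 3, 69), (29, 10, 62), (30, 3, 69), (32, 3, 69), (35, 3, 69), (37, 3, 69), (38, 3, 69), (40, 3, 69), (41, 3, 69), (42, 10, 62), (44, 3, 69), (45, 6, 66), (46, 3, 69), (48, 3, 69), (49, 3, 69), (51, 3, 69), (52, 6, 66), (53, 3, 69), (55, 3, 69), (56, 3, 69), (57, 6, 66), (59, 3, 69), (60, 10, 62), (62, 3, 69), (63, 13, 59), (64, 3, 69), (66, 3, 69), (67, 6, 66), (69, 6, 66), (70, 10, 62), (71, 13, 59)],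
  [(0, 12, 60), (1, 9, 63), (2, 7, 65), (4, 7, 65), (5, 4, 68), (7, 4, 68), (9, 4, 68), (10, 12, 60), (12, 4, 68), (13, 9, 63), (14, 7, 65), (15, 4, 68), (16, 4, 68), (18, 4, 68), (20, 4, 68), (21, 7, 65), (23, 4, 68), (24, 4, 68), (25, 4, 68), (27, 4, 68), (28, 7, 65), (29, 9, 63), (31, 4, 68), (32, 4, 68), (34, 4, 68), (36, 4, 68), (38, 4, 68), (39, 4, 68), (41, 4, 68), (42, 9, 63), (43, 7, 65), (45, 4, 68), (46, 4, 68), (47, 4, 68), (49, 4, 68), (50, 7, 65), (52, 4, 68), (54, 4, 68), (55, 4, 68), (56, 4, 68), (57, 7, 65), (58, 9, 63), (60, 4, 68), (61, 12, 60), (63, 4, 68), (65, 4, 68), (66, 4, 68), (68, 7, 65), (69, 7, 65), (70, 9, 63), (71, 12, 60)]]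

/-- Decompositions of the fundamental roots, type E6. -/
def certE6 : List RootCert := [
  ⟨(16, 66, 17, 34, 65), [.move false 16 66 17 34 65,
    .move false 16 66 18 33 64,
    .move false 16 66 19 31 63,
    .move false 16 66 20 30 62,
    .move false 16 66 26 23 60,
    .move false 16 66 27 22 59,
    .move false 16 66 57 2 29,
    .move false 16 66 58 1 28,
    .move false 16 66 61 0 21,
    .swap 16 66,
    .move false 17 65 21 30 61,
    .move false 17 65 28 22 58,
    .move false 17 65 59 1 27,
    .move false 17 65 62 0 20,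
    .swap 17 65,
    .move false 18 64 60 1 26,
    .move false 18 64 63 0 19,
    .swap 18 64,
    .move false 19 63 29 22 57]⟩,
  ⟨(1, 71, 11, 18, 63), [.move false 1 71 11 18 63,
    .move false 1 71 12 17 62,
    .move false 1 71 13 16 61,
    .move false 1 71 26 7 52,
    .move false 1 71 27 6 51,
    .move false 1 71 28 5 50,
    .move false 1 71 30 4 49,
    .move false 1 71 31 3 48,
    .move false 1 71 32 2 47,
    .swap 1 71,
    .move false 11 63 47 6 32,
    .move false 11 63 48 5 31,
    .move false 11 63 50 3 28,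
    .move false 11 63 51 2 27,
    .swap 11 63,
    .move false 12 62 49 5 30,
    .move false 12 62 52 2 26,
    .swap 12 62,
    .swap 13 61]⟩,
  ⟨(5, 69, 6, 34, 68), [.move false 5 69 6 34 68,
    .move false 5 69 7 33 67,
    .move false 5 69 15 16 57,
    .move false 5 69 22 12 52,
    .move false 5 69 23 11 51,
    .move false 5 69 30 9 45,
    .move false 5 69 31 8 44,
    .move false 5 69 43 1 32,
    .move false 5 69 50 0 24,
    .swap 5 69,
    .move false 6 68 24 11 50,
    .move false 6 68 32 8 43,
    .move false 6 68 44 1 31,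
    .move false 6 68 51 0 23,
    .swap 6 68,
    .move false 7 67 45 1 30,
    .move false 7 67 52 0 22,
    .swap 7 67,
    .swap 15 57]⟩,
  ⟨(2, 70, 8, 27, 65), [.move false 2 70 8 27 65,
    .move false 2 70 9 26 64,
    .move false 2 70 14 16 58,
    .move false 2 70 19 12 54,
    .move false 2 70 20 11 53,
    .move false 2 70 29 5 43,
    .move false 2 70 33 4 41,
    .move false 2 70 34 3 40,
    .move false 2 70 47 0 25,
    .swap 2 70,
    .move false 8 65 25 11 47,
    .move false 8 65 40 5 34,
    .move false 8 65 43 3 29,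
    .move false 8 65 53 0 20,
    .swap 8 65,
    .move false 9 64 41 5 33,
    .move false 9 64 54 0 19,
    .swap 9 64,
    .swap 14 58]⟩,
  ⟨(3, 69, 6, 29, 66), [.move false 3 69 6 29 66,
    .move false 3 69 10 26 62,
    .move false 3 69 13 19 59,
    .move false 3 69 17 14 55,
    .move false 3 69 21 11 51,
    .move false 3 69 28 8 44,
    .move false 3 69 35 4 38,
    .move false 3 69 40 1 32,
    .move false 3 69 48 0 24,
    .swap 3 69,
    .move false 6 66 24 11 48,
    .move false 6 66 32 8 40,
    .move false 6 66 44 1 28,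
    .move false 6 66 51 0 21,
    .swap 6 66,
    .move false 10 62 38 8 35,
    .move false 10 62 55 0 17,
    .swap 10 62,
    .swap 13 59]⟩,
  ⟨(4, 68, 7, 29, 65), [.move false 4 68 7 29 65,
    .move false 4 68 9 28 63,
    .move false 4 68 12 21 60,
    .move false 4 68 18 14 54,
    .move false 4 68 20 13 52,
    .move false 4 68 27 10 45,
    .move false 4 68 38 2 34,
    .move false 4 68 41 1 31,
    .move false 4 68 49 0 23,
    .swap 4 68,
    .move false 7 65 23 13 49,
    .move false 7 65 31 10 41,
    .move false 7 65 45 1 27,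
    .move false 7 65 52 0 20,
    .swap 7 65,
    .move false 9 63 34 10 38,
    .move false 9 63 54 0 18,
    .swap 9 63,
    .swap 12 60]⟩]

/-- Witnesses for pairs commuting with a fundamental root, type E7. -/
def witE7 : List (List (ℕ × ℕ × ℕ)) := [
  [(1, 33, 108), (2, 39, 102), (3, 36, 105), (4, 34, 107), (5, 33, 108), (6, 33, 108), (7, 36, 105), (8, 34, 107), (9, 33, 108), (10, 33, 108), (11, 34, 107), (12, 33, 108), (13, 33, 108), (14, 33, 108), (15, 33, 108), (16, 34, 107), (33, 1, 125), (34, 1, 125), (35, 1, 125), (36, 1, 125), (37, 1, 125), (38, 1, 125), (39, 1, 125), (40, 1, 125), (41, 1, 125), (42, 1, 125), (43, 1, 125), (44, 1, 125), (45, 1, 125), (46, 1, 125), (47, 1, 125), (48, 1, 125), (49, 1, 125), (50, 1, 125), (51, 1, 125), (52, 1, 125), (53, 1, 125), (54, 1, 125), (55, 1, 125), (56, 1, 125), (57, 1, 125), (58, 1, 125), (59, 1, 125), (60, 1, 125), (61, 1, 125), (62, 1, 125), (63, 1, 125), (64, 1, 125), (65, 1, 125), (66, 1, 125), (67, 1, 125), (68, 1, 125), (69, 1, 125), (70, 1, 125), (71, 1, 125), (72, 1, 125),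 (78, 1, 125), (79, 1, 125), (80, 1, 125), (81, 1, 125), (82, 1, 125), (93, 1, 125), (94, 1, 125), (95, 1, 125), (96, 1, 125), (97, 1, 125), (98, 1, 125), (99, 1, 125), (100, 1, 125), (101, 1, 125), (102, 1, 125), (103, 1, 125), (104, 1, 125), (105, 1, 125), (106, 1, 125), (107, 1, 125), (108, 1, 125), (109, 34, 107), (110, 33, 108), (111, 33, 108), (112, 33, 108), (113, 33, 108), (114, 34, 107), (115, 33, 108), (116, 33, 108), (117, 34, 107), (118, 36, 105), (119, 33, 108), (120, 33, 108), (121, 34, 107), (122, 36, 105), (123, 39, 102), (125, 33, 108)],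
  [(0, 48, 86), (1, 27, 102), (2, 27, 102), (7, 8, 121), (8, 7, 122), (9, 7, 122), (10, 7, 122), (11, 9, 120), (12, 8, 121), (13, 8, 121), (14, 7, 122), (15, 7, 122), (16, 7, 122), (17, 9, 120), (18, 8, 121), (19, 8, 121), (20, 7, 122), (21, 7, 122), (22, 7, 122), (27, 7, 122), (28, 7, 122), (29, 7, 122), (30, 7, 122), (31, 7, 122), (32, 7, 122), (33, 9, 120), (34, 8, 121), (35, 8, 121), (36, 7, 122), (37, 7, 122), (38, 7, 122), (48, 7, 122), (49, 7, 122), (50, 7, 122), (51, 7, 122), (52, 7, 122), (53, 7, 122), (54, 7, 122), (55, 7, 122), (56, 7, 122), (57, 8, 121), (58, 8, 121), (59, 9, 120), (60, 7, 122), (61, 7, 122), (62, 7, 122), (63, 7, 122), (64, 7, 122), (65, 7, 122), (66, 9, 120), (67, 8, 121), (68, 8, 121), (73, 7, 122), (78, 7, 122), (79, 7, 122), (80, 7, 122), (81, 7, 122), (82, 7, 122), (83, 7, 122), (84, 7, 122), (85, 7, 122), (86, 7, 122), (87, 7, 122), (88, 7, 122), (89, 7, 122), (90, 8, 121), (91, 8, 121), (92, 9, 120), (93, 7, 122), (94, 7, 122), (99, 7, 122), (100, 7, 122), (101, 7, 122), (102, 7, 122), (103, 7,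 122), (104, 7, 122), (105, 7, 122), (106, 8, 121), (107, 8, 121), (108, 9, 120), (109, 7, 122), (110, 7, 122), (111, 7, 122), (112, 8, 121), (113, 8, 121), (114, 9, 120), (119, 7, 122), (120, 7, 122), (121, 7, 122), (122, 8, 121), (123, 27, 102), (124, 27, 102), (125, 48, 86)],
  [(0, 43, 86), (2, 17, 114), (3, 20, 111), (4, 18, 113), (5, 17, 114), (6, 17, 114), (7, 20, 111), (8, 18, 113), (9, 17, 114), (10, 17, 114), (17, 2, 124), (18, 2, 124), (19, 2, 124), (20, 2, 124), (21, 2, 124), (22, 2, 124), (23, 2, 124), (24, 2, 124), (25, 2, 124), (26, 2, 124), (27, 2, 124), (28, 2, 124), (29, 2, 124), (30, 2, 124), (32, 2, 124), (33, 18, 113), (34, 17, 114), (35, 17, 114), (36, 17, 114), (37, 17, 114), (38, 18, 113), (43, 2, 124), (44, 2, 124), (45, 2, 124), (46, 2, 124), (47, 2, 124), (53, 2, 124), (54, 2, 124), (55, 2, 124), (56, 2, 124), (57, 2, 124), (58, 2, 124), (59, 2, 124), (60, 2, 124), (61, 2, 124), (62, 2, 124), (63, 2, 124), (64, 2, 124), (65, 2, 124), (66, 2, 124), (67, 2, 124), (68, 2, 124), (73, 2, 124), (74, 2, 124), (75,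 2, 124), (76, 2, 124), (77, 2, 124), (78, 2, 124), (83, 2, 124), (84, 2, 124), (85, 2, 124), (86, 2, 124), (87, 18, 113), (88, 17, 114), (89, 17, 114), (90, 17, 114), (91, 17, 114), (92, 18, 113), (94, 2, 124), (95, 2, 124), (96, 2, 124), (97, 2, 124), (98, 2, 124), (99, 2, 124), (100, 2, 124), (101, 2, 124), (102, 2, 124), (109, 2, 124), (110, 2, 124), (111, 2, 124), (112, 2, 124), (113, 2, 124), (114, 2, 124), (115, 17, 114), (116, 17, 114), (117, 18, 113), (118, 20, 111), (119, 17, 114), (120, 17, 114), (121, 18, 113), (122, 20, 111), (124, 17, 114), (125, 43, 86)],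
  [(0, 39, 89), (1, 23, 105), (3, 11, 117), (4, 12, 116), (5, 11, 117), (6, 11, 117), (7, 23, 105), (11, 3, 123), (12, 3, 123), (13, 3, 123), (14, 3, 123), (15, 3, 123), (16, 3, 123), (17, 12, 116), (18, 11, 117), (19, 11, 117), (23, 3, 123), (24, 3, 123), (25, 3, 123), (26, 3, 123), (27, 3, 123), (28, 3, 123), (29, 3, 123), (31, 3, 123), (32, 3, 123), (33, 12, 116), (34, 11, 117), (35, 11, 117), (39, 3, 123), (40, 3, 123), (41, 3, 123), (42, 3, 123), (43, 11, 117), (44, 11, 117), (45, 12, 116), (47, 3, 123), (48, 3, 123), (49, 3, 123), (50, 3, 123), (52, 3, 123), (57, 3, 123), (58, 3, 123), (59, 3, 123), (60, 3, 123), (61, 3, 123), (62, 3, 123), (63, 3, 123), (64, 3, 123), (65, 3, 123), (69, 3, 123), (70, 3, 123), (71, 3, 123), (72, 3, 123), (74, 3, 123), (75, 3, 123), (76, 3, 123), (77, 3, 123), (79, 3, 123), (80, 12, 116), (81, 11, 117), (82, 11, 117), (83, 3, 123), (87, 3, 123), (88, 3, 123), (89, 3, 123), (90, 11, 117), (91, 11, 117), (92, 12, 116), (93, 3, 123), (95, 3, 123), (96, 3, 123), (97, 3, 123), (98, 3, 123), (99, 3,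 123), (103, 3, 123), (104, 3, 123), (105, 3, 123), (106, 11, 117), (107, 11, 117), (108, 12, 116), (109, 3, 123), (110, 3, 123), (111, 3, 123), (115, 3, 123), (116, 3, 123), (117, 3, 123), (118, 23, 105), (119, 11, 117), (120, 11, 117), (121, 12, 116), (123, 11, 117), (124, 23, 105), (125, 39, 89)],
  [(0, 36, 91), (1, 20, 107), (2, 14, 113), (4, 8, 118), (5, 8, 118), (6, 8, 118), (8, 4, 122), (9, 4, 122), (10, 4, 122), (11, 20, 107), (14, 4, 122), (15, 4, 122), (16, 4, 122), (17, 14, 113), (20, 4, 122), (21, 4, 122), (22, 4, 122), (23, 8, 118), (24, 8, 118), (26, 4, 122), (27, 4, 122), (28, 4, 122), (30, 4, 122), (31, 4, 122), (32, 4, 122), (33, 14, 113), (36, 4, 122), (37, 4, 122), (38, 4, 122), (39, 8, 118), (40, 8, 118), (42, 4, 122), (43, 8, 118), (44, 8, 118), (46, 4, 122), (47, 14, 113), (48, 4, 122), (49, 4, 122), (51, 4, 122), (52, 4, 122), (53, 4, 122), (54, 4, 122), (56, 4, 122), (60, 4, 122), (61, 4, 122), (62, 4, 122), (63, 4, 122), (66, 4, 122), (67, 4, 122), (68, 4, 122), (70, 4, 122), (71, 4, 122), (72, 4, 122), (73,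 4, 122), (75, 4, 122), (76, 4, 122), (77, 4, 122), (78, 14, 113), (80, 4, 122), (81, 8, 118), (82, 8, 118), (84, 4, 122), (85, 8, 118), (86, 8, 118), (87, 4, 122), (90, 4, 122), (91, 4, 122), (92, 14, 113), (93, 4, 122), (94, 4, 122), (96, 4, 122), (97, 4, 122), (98, 4, 122), (100, 4, 122), (101, 8, 118), (102, 8, 118), (103, 4, 122), (106, 4, 122), (107, 4, 122), (108, 14, 113), (109, 4, 122), (112, 4, 122), (113, 4, 122), (114, 20, 107), (115, 4, 122), (116, 4, 122), (118, 4, 122), (119, 8, 118), (120, 8, 118), (122, 8, 118), (123, 14, 113), (124, 20, 107), (125, 36, 91)],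
  [(0, 34, 92), (1, 18, 108), (2, 12, 114), (3, 9, 117), (5, 9, 117), (6, 9, 117), (7, 5, 121), (9, 5, 121), (10, 5, 121), (12, 5, 121), (13, 5, 121), (14, 18, 108), (16, 5, 121), (18, 5, 121), (19, 5, 121), (20, 12, 114), (22, 5, 121), (23, 9, 117), (25, 5, 121), (26, 9, 117), (27, 5, 121), (29, 5, 121), (30, 5, 121), (31, 5, 121), (32, 5, 121), (34, 5, 121), (35, 5, 121), (36, 12, 114), (38, 5, 121), (39, 9, 117), (41, 5, 121), (42, 9, 117), (43, 9, 117), (45, 5, 121), (46, 9, 117), (47, 12, 114), (48, 5, 121), (50, 5, 121), (51, 5, 121), (52, 5, 121), (53, 5, 121), (55, 5, 121), (56, 5, 121), (57, 5, 121), (59, 5, 121), (62, 5, 121), (64, 5, 121), (65, 5, 121), (67, 5, 121), (68, 5, 121), (69, 5, 121), (71, 5, 121), (72, 5, 121), (73, 5, 121), (74, 5, 121), (76, 5, 121), (77, 5, 121), (78, 12, 114), (79, 9, 117), (81, 5, 121), (82, 9, 117), (83, 9, 117), (85, 5, 121), (86, 9, 117), (88, 5, 121), (89, 12, 114), (90, 5, 121), (92, 5, 121), (93, 5, 121), (94, 5, 121), (95, 5, 121), (97, 5, 121), (98, 5, 121), (99, 9, 117), (101, 5,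 121), (102, 9, 117), (104, 5, 121), (105, 12, 114), (106, 5, 121), (108, 5, 121), (110, 5, 121), (111, 18, 108), (112, 5, 121), (114, 5, 121), (115, 5, 121), (117, 5, 121), (118, 5, 121), (119, 9, 117), (121, 9, 117), (122, 9, 117), (123, 12, 114), (124, 18, 108), (125, 34, 92)],
  [(0, 35, 91), (1, 19, 107), (2, 13, 113), (3, 10, 116), (4, 10, 116), (6, 10, 116), (7, 6, 120), (8, 6, 120), (10, 6, 120), (11, 6, 120), (13, 6, 120), (15, 6, 120), (16, 19, 107), (17, 6, 120), (19, 6, 120), (21, 6, 120), (22, 13, 113), (24, 6, 120), (25, 10, 116), (26, 10, 116), (28, 6, 120), (29, 6, 120), (30, 6, 120), (31, 6, 120), (32, 6, 120), (33, 6, 120), (35, 6, 120), (37, 6, 120), (38, 13, 113), (40, 6, 120), (41, 10, 116), (42, 10, 116), (44, 6, 120), (45, 10, 116), (46, 10, 116), (47, 13, 113), (49, 6, 120), (50, 6, 120), (51, 6, 120), (52, 6, 120), (54, 6, 120), (55, 6, 120), (56, 6, 120), (58, 6, 120), (59, 6, 120), (61, 6, 120), (63, 6, 120), (65, 6, 120), (66, 6, 120), (68, 6, 120), (69, 6, 120), (70, 6, 120), (72, 6, 120), (73, 6, 120),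 (74, 6, 120), (75, 6, 120), (77, 6, 120), (78, 13, 113), (79, 10, 116), (80, 10, 116), (82, 6, 120), (83, 10, 116), (84, 10, 116), (86, 6, 120), (87, 13, 113), (89, 6, 120), (91, 6, 120), (92, 6, 120), (93, 6, 120), (94, 6, 120), (95, 6, 120), (96, 6, 120), (98, 6, 120), (99, 10, 116), (100, 10, 116), (102, 6, 120), (103, 13, 113), (105, 6, 120), (107, 6, 120), (108, 6, 120), (109, 19, 107), (111, 6, 120), (113, 6, 120), (114, 6, 120), (116, 6, 120), (117, 6, 120), (118, 6, 120), (120, 10, 116), (121, 10, 116), (122, 10, 116), (123, 13, 113), (124, 19, 107), (125, 35, 91)]]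

/-- Decompositions of the fundamental roots, type E7. -/
def certE7 : List RootCert := [
  ⟨(1, 125, 33, 16, 108), [.move false 1 125 33 16 108,
    .move false 1 125 34 15 107,
    .move false 1 125 35 14 106,
    .move false 1 125 36 13 105,
    .move false 1 125 37 12 104,
    .move false 1 125 38 11 103,
    .move false 1 125 39 10 102,
    .move false 1 125 40 9 101,
    .move false 1 125 41 8 100,
    .move false 1 125 42 7 99,
    .move false 1 125 48 6 98,
    .move false 1 125 49 5 97,
    .move false 1 125 50 4 96,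
    .move false 1 125 51 3 95,
    .move false 1 125 52 2 94,
    .swap 1 125,
    .move false 33 108 94 11 52,
    .move false 33 108 95 8 51,
    .move false 33 108 96 7 50,
    .move false 33 108 99 4 42,
    .move false 33 108 100 3 41,
    .move false 33 108 103 2 38,
    .swap 33 108,
    .move false 34 107 97 7 49,
    .move false 34 107 101 3 40,
    .move false 34 107 104 2 37,
    .swap 34 107,
    .move false 35 106 98 7 48,
    .move false 35 106 102 3 39,
    .move false 35 106 105 2 36,
    .swap 35 106]⟩,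
  ⟨(7, 122, 8, 59, 121), [.move false 7 122 8 59 121,
    .move false 7 122 9 58 120,
    .move false 7 122 10 57 119,
    .move false 7 122 27 35 102,
    .move false 7 122 28 34 101,
    .move false 7 122 29 33 100,
    .move false 7 122 48 19 86,
    .move false 7 122 49 18 85,
    .move false 7 122 50 17 84,
    .move false 7 122 53 13 82,
    .move false 7 122 54 12 81,
    .move false 7 122 55 11 80,
    .move false 7 122 79 2 56,
    .move false 7 122 83 1 51,
    .move false 7 122 99 0 30,
    .swap 7 122,
    .move false 8 121 30 33 99,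
    .move false 8 121 51 17 83,
    .move false 8 121 56 11 79,
    .move false 8 121 80 2 55,
    .move false 8 121 84 1 50,
    .move false 8 121 100 0 29,
    .swap 8 121,
    .move false 9 120 81 2 54,
    .move false 9 120 85 1 49,
    .move false 9 120 101 0 28,
    .swap 9 120,
    .move false 10 119 82 2 53,
    .move false 10 119 86 1 48,
    .move false 10 119 102 0 27,
    .swap 10 119]⟩,
  ⟨(2, 124, 17, 38, 114), [.move false 2 124 17 38 114,
    .move false 2 124 18 37 113,
    .move false 2 124 19 36 112,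
    .move false 2 124 20 35 111,
    .move false 2 124 21 34 110,
    .move false 2 124 22 33 109,
    .move false 2 124 43 10 86,
    .move false 2 124 44 9 85,
    .move false 2 124 45 8 84,
    .move false 2 124 46 7 83,
    .move false 2 124 53 6 77,
    .move false 2 124 54 5 76,
    .move false 2 124 55 4 75,
    .move false 2 124 56 3 74,
    .move false 2 124 94 0 32,
    .swap 2 124,
    .move false 17 114 32 33 94,
    .move false 17 114 74 8 56,
    .move false 17 114 75 7 55,
    .move false 17 114 83 4 46,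
    .move false 17 114 84 3 45,
    .move false 17 114 109 0 22,
    .swap 17 114,
    .move false 18 113 76 7 54,
    .move false 18 113 85 3 44,
    .move false 18 113 110 0 21,
    .swap 18 113,
    .move false 19 112 77 7 53,
    .move false 19 112 86 3 43,
    .move false 19 112 111 0 20,
    .swap 19 112]⟩,
  ⟨(3, 123, 11, 45, 117), [.move false 3 123 11 45 117,
    .move false 3 123 12 44 116,
    .move false 3 123 13 43 115,
    .move false 3 123 23 35 105,
    .move false 3 123 24 34 104,
    .move false 3 123 25 33 103,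
    .move false 3 123 39 19 89,
    .move false 3 123 40 18 88,
    .move false 3 123 41 17 87,
    .move false 3 123 47 7 79,
    .move false 3 123 57 6 72,
    .move false 3 123 58 5 71,
    .move false 3 123 59 4 70,
    .move false 3 123 74 1 52,
    .move false 3 123 95 0 31,
    .swap 3 123,
    .move false 11 117 31 33 95,
    .move false 11 117 52 17 74,
    .move false 11 117 70 7 59,
    .move false 11 117 79 4 47,
    .move false 11 117 87 1 41,
    .move false 11 117 103 0 25,
    .swap 11 117,
    .move false 12 116 71 7 58,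
    .move false 12 116 88 1 40,
    .move false 12 116 104 0 24,
    .swap 12 116,
    .move false 13 115 72 7 57,
    .move false 13 115 89 1 39,
    .move false 13 115 105 0 23,
    .swap 13 115]⟩,
  ⟨(4, 122, 8, 47, 118), [.move false 4 122 8 47 118,
    .move false 4 122 14 44 113,
    .move false 4 122 15 43 112,
    .move false 4 122 20 40 107,
    .move false 4 122 21 39 106,
    .move false 4 122 26 33 100,
    .move false 4 122 36 24 91,
    .move false 4 122 37 23 90,
    .move false 4 122 42 17 84,
    .move false 4 122 46 11 80,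
    .move false 4 122 60 6 68,
    .move false 4 122 61 5 67,
    .move false 4 122 70 2 56,
    .move false 4 122 75 1 51,
    .move false 4 122 96 0 30,
    .swap 4 122,
    .move false 8 118 30 33 96,
    .move false 8 118 51 17 75,
    .move false 8 118 56 11 70,
    .move false 8 118 80 2 46,
    .move false 8 118 84 1 42,
    .move false 8 118 100 0 26,
    .swap 8 118,
    .move false 14 113 67 11 61,
    .move false 14 113 90 1 37,
    .move false 14 113 106 0 21,
    .swap 14 113,
    .move false 15 112 68 11 60,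
    .move false 15 112 91 1 36,
    .move false 15 112 107 0 20,
    .swap 15 112]⟩,
  ⟨(5, 121, 9, 47, 117), [.move false 5 121 9 47 117,
    .move false 5 121 12 46 114,
    .move false 5 121 16 43 110,
    .move false 5 121 18 42 108,
    .move false 5 121 22 39 104,
    .move false 5 121 25 36 101,
    .move false 5 121 34 26 92,
    .move false 5 121 38 23 88,
    .move false 5 121 41 20 85,
    .move false 5 121 45 14 81,
    .move false 5 121 62 6 65,
    .move false 5 121 67 3 59,
    .move false 5 121 71 2 55,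
    .move false 5 121 76 1 50,
    .move false 5 121 97 0 29,
    .swap 5 121,
    .move false 9 117 29 36 97,
    .move false 9 117 50 20 76,
    .move false 9 117 55 14 71,
    .move false 9 117 81 2 45,
    .move false 9 117 85 1 41,
    .move false 9 117 101 0 25,
    .swap 9 117,
    .move false 12 114 59 14 67,
    .move false 12 114 88 1 38,
    .move false 12 114 104 0 22,
    .swap 12 114,
    .move false 16 110 65 14 62,
    .move false 16 110 92 1 34,
    .move false 16 110 108 0 18,
    .swap 16 110]⟩,
  ⟨(6, 120, 10, 47, 116), [.move false 6 120 10 47 116,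
    .move false 6 120 13 46 113,
    .move false 6 120 15 45 111,
    .move false 6 120 19 42 107,
    .move false 6 120 21 41 105,
    .move false 6 120 24 38 102,
    .move false 6 120 35 26 91,
    .move false 6 120 37 25 89,
    .move false 6 120 40 22 86,
    .move false 6 120 44 16 82,
    .move false 6 120 65 4 61,
    .move false 6 120 68 3 58,
    .move false 6 120 72 2 54,
    .move false 6 120 77 1 49,
    .move false 6 120 98 0 28,
    .swap 6 120,
    .move false 10 116 28 38 98,
    .move false 10 116 49 22 77,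
    .move false 10 116 54 16 72,
    .move false 10 116 82 2 44,
    .move false 10 116 86 1 40,
    .move false 10 116 102 0 24,
    .swap 10 116,
    .move false 13 113 58 16 68,
    .move false 13 113 89 1 37,
    .move false 13 113 105 0 21,
    .swap 13 113,
    .move false 15 111 61 16 65,
    .move false 15 111 91 1 35,
    .move false 15 111 107 0 19,
    .swap 15 111]⟩]

/-- Witnesses for pairs commuting with a fundamental root, type E8. -/
def witE8 : List (List (ℕ × ℕ × ℕ)) := [
  [(0, 20, 226), (1, 19, 227), (2, 18, 228), (3, 17, 229), (4, 16, 230), (5, 15, 231), (7, 14, 233), (14, 15, 231), (15, 14, 233), (16, 14, 233), (17, 14, 233), (18, 14, 233), (19, 14, 233), (20, 14, 233), (21, 17, 229), (22, 16, 230), (23, 16, 230), (24, 16, 230), (25, 16, 230), (26, 15, 231), (27, 15, 231), (28, 15, 231), (29, 15, 231), (30, 15, 231), (31, 15, 231), (32, 15, 231), (33, 15, 231), (34, 15, 231), (35, 15, 231), (36, 14, 233), (37, 14, 233), (38, 14, 233), (39, 14, 233), (40, 14, 233), (41, 14, 233), (42, 14, 233), (43, 14, 233),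 (44, 14, 233), (45, 14, 233), (46, 14, 233), (47, 14, 233), (48, 14, 233), (49, 14, 233), (50, 14, 233), (51, 14, 233), (52, 14, 233), (53, 14, 233), (54, 14, 233), (55, 14, 233), (78, 14, 233), (79, 14, 233), (80, 14, 233), (81, 14, 233), (82, 14, 233), (83, 14, 233), (84, 14, 233), (85, 14, 233), (86, 14, 233), (87, 14, 233), (88, 14, 233), (89, 14, 233), (90, 14, 233), (91, 14, 233), (92, 14, 233), (93, 15, 231), (94, 15, 231), (95, 15, 231), (96, 15, 231), (97, 15, 231), (98, 16, 230), (99, 14, 233), (100, 14, 233), (101, 14, 233), (102, 14, 233), (103, 14, 233), (104, 14, 233), (105, 14, 233), (106, 14, 233), (107, 14, 233), (108, 14, 233), (109, 14, 233), (110, 14, 233), (111, 14, 233), (112, 14, 233), (113, 14, 233), (114, 14, 233), (115, 14, 233), (116, 14, 233), (117, 14, 233), (118, 14, 233), (119, 14, 233), (120, 14, 233), (121, 14, 233), (122, 14, 233), (123, 14, 233), (124, 14, 233), (125, 14, 233), (126, 14, 233), (127, 14, 233), (128, 14, 233), (129, 14, 233), (130, 14, 233), (131, 14, 233), (132, 14, 233), (133, 14,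 233), (134, 14, 233), (141, 16, 230), (142, 15, 231), (143, 15, 231), (144, 15, 231), (145, 15, 231), (146, 15, 231), (162, 14, 233), (163, 14, 233), (164, 14, 233), (165, 14, 233), (166, 14, 233), (167, 14, 233), (168, 14, 233), (169, 14, 233), (170, 14, 233), (171, 14, 233), (172, 14, 233), (173, 14, 233), (174, 14, 233), (175, 14, 233), (176, 14, 233), (177, 14, 233), (178, 14, 233), (179, 14, 233), (180, 14, 233), (181, 14, 233), (182, 14, 233), (183, 14, 233), (184, 14, 233), (185, 14, 233), (186, 14, 233), (187, 14, 233), (188, 14, 233), (189, 14, 233), (190, 14, 233), (191, 14, 233), (192, 14, 233), (193, 14, 233), (194, 14, 233), (195, 14, 233), (196, 14, 233), (197, 14, 233), (198, 14, 233), (199, 14, 233), (200, 14, 233), (201, 14, 233), (202, 14, 233), (203, 14, 233), (204, 15, 231), (205, 15, 231), (206, 15, 231), (207, 15, 231), (208, 15, 231), (209, 15, 231), (210, 15, 231), (211, 15, 231), (212, 15, 231), (213, 15, 231), (214, 16, 230), (215, 16, 230), (216, 16, 230), (217, 16, 230), (218, 17, 229), (226, 14, 233),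 (227, 14, 233), (228, 14, 233), (229, 14, 233), (230, 14, 233), (231, 14, 233), (232, 14, 233), (233, 15, 231), (234, 15, 231), (235, 16, 230), (236, 17, 229), (237, 18, 228), (238, 19, 227), (239, 20, 226)],
  [(0, 39, 210), (1, 38, 211), (2, 37, 212), (3, 36, 213), (4, 36, 213), (7, 8, 233), (8, 7, 234), (9, 15, 225), (10, 15, 225), (11, 15, 225), (12, 15, 225), (13, 15, 225), (15, 7, 234), (16, 8, 233), (17, 8, 233), (18, 8, 233), (19, 8, 233), (20, 8, 233), (21, 7, 234), (22, 7, 234), (23, 7, 234), (24, 7, 234), (25, 7, 234), (36, 7, 234), (37, 7, 234), (38, 7, 234), (39, 7, 234), (40, 7, 234), (41, 7, 234), (42, 7, 234), (43, 7, 234), (44, 7, 234), (45, 7, 234), (46, 8, 233), (47, 8, 233), (48, 8, 233), (49, 8, 233), (50, 8, 233), (51, 8, 233), (52, 8, 233), (53, 8, 233), (54, 8, 233), (55, 8, 233), (56, 7, 234), (57, 7, 234), (58, 7, 234), (59, 7, 234), (60, 7, 234), (61, 7, 234), (62, 7, 234), (63, 7, 234), (64, 7, 234), (65, 7, 234), (71, 7, 234), (72, 7, 234), (73, 7, 234), (74, 7, 234), (75, 7, 234), (76, 8, 233), (77, 7,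 234), (78, 7, 234), (79, 7, 234), (80, 7, 234), (81, 7, 234), (82, 7, 234), (83, 7, 234), (84, 7, 234), (85, 7, 234), (86, 7, 234), (87, 7, 234), (99, 7, 234), (100, 7, 234), (101, 7, 234), (102, 7, 234), (103, 7, 234), (104, 15, 225), (105, 7, 234), (106, 7, 234), (107, 7, 234), (108, 7, 234), (109, 7, 234), (110, 7, 234), (111, 7, 234), (112, 7, 234), (113, 7, 234), (114, 7, 234), (115, 7, 234), (116, 7, 234), (117, 7, 234), (118, 7, 234), (119, 7, 234), (120, 7, 234), (121, 7, 234), (122, 7, 234), (123, 7, 234), (124, 7, 234), (125, 7, 234), (126, 7, 234), (127, 7, 234), (128, 7, 234), (129, 7, 234), (135, 15, 225), (141, 7, 234), (142, 7, 234), (143, 7, 234), (144, 7, 234), (145, 7, 234), (146, 7, 234), (147, 7, 234), (148, 7, 234), (149, 7, 234), (150, 7, 234), (151, 7, 234), (152, 7, 234), (153, 7, 234), (154, 7, 234), (155, 7, 234), (156, 7, 234), (157, 7, 234), (158, 7, 234), (159, 7, 234), (160, 7, 234), (161, 7, 234), (162, 7, 234), (163, 8, 233), (169, 7, 234), (170, 7, 234), (171, 7, 234), (172, 7, 234), (173, 7, 234),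 (174, 7, 234), (175, 7, 234), (176, 7, 234), (177, 7, 234), (178, 7, 234), (179, 7, 234), (180, 7, 234), (181, 7, 234), (182, 7, 234), (183, 7, 234), (184, 8, 233), (185, 8, 233), (186, 8, 233), (187, 8, 233), (188, 8, 233), (189, 8, 233), (190, 8, 233), (191, 8, 233), (192, 8, 233), (193, 8, 233), (204, 7, 234), (205, 7, 234), (206, 7, 234), (207, 7, 234), (208, 7, 234), (209, 7, 234), (210, 7, 234), (211, 7, 234), (212, 7, 234), (213, 7, 234), (214, 7, 234), (215, 7, 234), (216, 7, 234), (217, 7, 234), (218, 7, 234), (219, 8, 233), (220, 8, 233), (221, 8, 233), (222, 8, 233), (223, 8, 233), (225, 7, 234), (226, 15, 225), (227, 15, 225), (228, 15, 225), (229, 15, 225), (230, 15, 225), (233, 7, 234), (234, 8, 233), (235, 36, 213), (236, 36, 213), (237, 37, 212), (238, 38, 211), (239, 39, 210)],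
  [(0, 25, 219), (1, 24, 220), (2, 23, 221), (3, 22, 222), (4, 21, 223), (6, 8, 232), (8, 6, 234), (9, 22, 222), (10, 21, 223), (11, 21, 223), (12, 21, 223), (13, 21, 223), (14, 8, 232), (15, 6, 234), (21, 6, 234), (22, 6, 234), (23, 6, 234), (24, 6, 234), (25, 6, 234), (26, 8, 232), (27, 8, 232), (28, 8, 232), (29, 8, 232), (30, 8, 232), (31, 8, 232), (32, 8, 232), (33, 8, 232), (34, 8, 232), (35, 8, 232), (36, 6, 234), (37, 6, 234), (38, 6, 234), (39, 6, 234), (40, 6, 234), (41, 6, 234), (42, 6, 234), (43, 6, 234), (44, 6, 234), (45, 6, 234), (56, 6, 234), (57, 6, 234), (58, 6, 234), (59, 6, 234), (60, 6, 234), (61, 6, 234), (62, 6, 234), (63, 6, 234), (64, 6, 234), (65, 6, 234), (66, 8, 232), (67, 8, 232), (68, 8, 232), (69, 8, 232), (70, 8, 232), (71, 6, 234), (72, 6, 234), (73, 6, 234), (74, 6, 234), (75, 6, 234), (77, 6, 234), (78, 6, 234), (79, 6, 234), (80, 6, 234), (81, 6, 234), (82, 6, 234), (83, 6, 234), (84, 6, 234), (85, 6, 234), (86, 6, 234), (87, 6, 234), (93, 6, 234), (94, 6, 234), (95, 6, 234), (96, 6, 234), (97,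 6, 234), (98, 21, 223), (105, 6, 234), (106, 6, 234), (107, 6, 234), (108, 6, 234), (109, 6, 234), (110, 6, 234), (111, 6, 234), (112, 6, 234), (113, 6, 234), (114, 6, 234), (115, 6, 234), (116, 6, 234), (117, 6, 234), (118, 6, 234), (119, 6, 234), (120, 6, 234), (121, 6, 234), (122, 6, 234), (123, 6, 234), (124, 6, 234), (125, 6, 234), (126, 6, 234), (127, 6, 234), (128, 6, 234), (129, 6, 234), (135, 6, 234), (136, 6, 234), (137, 6, 234), (138, 6, 234), (139, 6, 234), (140, 6, 234), (141, 21, 223), (147, 6, 234), (148, 6, 234), (149, 6, 234), (150, 6, 234), (151, 6, 234), (152, 6, 234), (153, 6, 234), (154, 6, 234), (155, 6, 234), (156, 6, 234), (157, 6, 234), (158, 6, 234), (159, 6, 234), (160, 6, 234), (161, 6, 234), (163, 6, 234), (164, 6, 234), (165, 6, 234), (166, 6, 234), (167, 6, 234), (168, 6, 234), (169, 8, 232), (170, 8, 232), (171, 8, 232), (172, 8, 232), (173, 8, 232), (184, 6, 234), (185, 6, 234), (186, 6, 234), (187, 6, 234), (188, 6, 234), (189, 6, 234), (190, 6, 234), (191, 6, 234), (192, 6, 234), (193, 6, 234), (194,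 6, 234), (195, 6, 234), (196, 6, 234), (197, 6, 234), (198, 6, 234), (199, 6, 234), (200, 6, 234), (201, 6, 234), (202, 6, 234), (203, 6, 234), (204, 8, 232), (205, 8, 232), (206, 8, 232), (207, 8, 232), (208, 8, 232), (209, 8, 232), (210, 8, 232), (211, 8, 232), (212, 8, 232), (213, 8, 232), (219, 6, 234), (220, 6, 234), (221, 6, 234), (222, 6, 234), (223, 6, 234), (224, 6, 234), (225, 8, 232), (226, 21, 223), (227, 21, 223), (228, 21, 223), (229, 21, 223), (230, 22, 222), (232, 6, 234), (234, 8, 232), (235, 21, 223), (236, 22, 222), (237, 23, 221), (238, 24, 220), (239, 25, 219)],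
  [(0, 29, 214), (1, 28, 215), (2, 27, 216), (3, 26, 217), (5, 9, 231), (6, 16, 224), (7, 26, 217), (9, 5, 235), (10, 16, 224), (11, 16, 224), (12, 16, 224), (13, 16, 224), (14, 9, 231), (16, 5, 235), (17, 9, 231), (18, 9, 231), (19, 9, 231), (20, 9, 231), (21, 5, 235), (26, 5, 235), (27, 5, 235), (28, 5, 235), (29, 5, 235), (30, 9, 231), (31, 9, 231), (32, 9, 231), (33, 9, 231), (34, 9, 231), (35, 9, 231), (36, 5, 235), (37, 5, 235), (38, 5, 235), (39, 5, 235), (46, 5, 235), (47, 5, 235), (48, 5, 235), (49, 5, 235), (50, 5, 235), (51, 5, 235), (52, 9, 231), (53, 9, 231), (54, 9, 231), (55, 9, 231), (56, 5, 235), (57, 5, 235), (58, 5, 235), (59, 5, 235), (60, 5, 235), (61, 5, 235), (66, 5, 235), (67, 5, 235), (68, 5, 235), (69, 5, 235), (70, 9, 231), (71, 5, 235), (72, 5, 235), (73, 5, 235), (74, 5, 235), (76, 5, 235), (77, 5, 235), (78, 5, 235), (79, 5, 235), (80, 5, 235), (81, 5, 235), (82, 5, 235), (83, 5, 235), (88, 5, 235), (89, 5, 235), (90, 5, 235), (91, 5, 235), (92, 16, 224), (93, 5, 235), (94, 5, 235), (95, 5, 235), (96,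 5, 235), (98, 5, 235), (99, 5, 235), (100, 5, 235), (101, 5, 235), (102, 5, 235), (104, 5, 235), (110, 5, 235), (111, 5, 235), (112, 5, 235), (113, 5, 235), (114, 5, 235), (115, 5, 235), (116, 5, 235), (117, 5, 235), (118, 5, 235), (119, 5, 235), (120, 5, 235), (121, 5, 235), (122, 5, 235), (123, 5, 235), (124, 5, 235), (125, 5, 235), (130, 5, 235), (131, 5, 235), (132, 5, 235), (133, 5, 235), (134, 5, 235), (136, 5, 235), (137, 5, 235), (138, 5, 235), (139, 5, 235), (140, 5, 235), (142, 5, 235), (143, 5, 235), (144, 5, 235), (145, 5, 235), (146, 5, 235), (147, 16, 224), (152, 5, 235), (153, 5, 235), (154, 5, 235), (155, 5, 235), (156, 5, 235), (157, 5, 235), (158, 5, 235), (159, 5, 235), (160, 5, 235), (161, 5, 235), (162, 5, 235), (164, 5, 235), (165, 5, 235), (166, 5, 235), (167, 5, 235), (168, 5, 235), (169, 9, 231), (174, 5, 235), (175, 5, 235), (176, 5, 235), (177, 5, 235), (178, 5, 235), (179, 5, 235), (180, 5, 235), (181, 5, 235), (182, 5, 235), (183, 5, 235), (184, 9, 231), (185, 9, 231), (186, 9, 231), (187, 9, 231), (194,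 5, 235), (195, 5, 235), (196, 5, 235), (197, 5, 235), (198, 5, 235), (199, 5, 235), (200, 5, 235), (201, 5, 235), (202, 5, 235), (203, 5, 235), (204, 9, 231), (205, 9, 231), (206, 9, 231), (207, 9, 231), (208, 9, 231), (209, 9, 231), (214, 5, 235), (215, 5, 235), (216, 5, 235), (217, 5, 235), (218, 5, 235), (219, 9, 231), (220, 9, 231), (221, 9, 231), (222, 9, 231), (224, 5, 235), (225, 9, 231), (226, 16, 224), (227, 16, 224), (228, 16, 224), (229, 16, 224), (231, 5, 235), (232, 26, 217), (233, 16, 224), (235, 9, 231), (236, 26, 217), (237, 27, 216), (238, 28, 215), (239, 29, 214)],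
  [(0, 32, 210), (1, 31, 211), (2, 30, 212), (4, 10, 230), (5, 22, 218), (6, 17, 223), (7, 22, 218), (8, 17, 223), (10, 4, 236), (11, 17, 223), (12, 17, 223), (13, 17, 223), (14, 10, 230), (15, 10, 230), (17, 4, 236), (18, 10, 230), (19, 10, 230), (20, 10, 230), (22, 4, 236), (23, 10, 230), (24, 10, 230), (25, 10, 230), (26, 4, 236), (30, 4, 236), (31, 4, 236), (32, 4, 236), (33, 10, 230), (34, 10, 230), (35, 10, 230), (36, 4, 236), (40, 4, 236), (41, 4, 236), (42, 4, 236), (43, 10, 230), (44, 10, 230), (45, 10, 230), (46, 4, 236), (47, 4, 236), (48, 4, 236), (52, 4, 236), (53, 4, 236), (54, 4, 236), (55, 10, 230), (56, 4, 236), (57, 4, 236), (58, 4, 236), (62, 4, 236), (63, 4, 236), (64, 4, 236), (65, 10, 230), (66, 4, 236), (67, 4, 236), (68, 4, 236), (70, 4, 236), (71, 4, 236), (72, 4, 236), (73, 4, 236), (75, 4, 236), (76, 4, 236), (77, 4, 236), (78, 4, 236), (79, 4, 236), (80, 4, 236), (84, 4, 236), (85, 4, 236), (86, 4, 236), (87, 17, 223), (88, 4, 236), (89, 4, 236), (90, 4, 236), (92, 4, 236), (93, 4, 236), (94, 4, 236), (95,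 4, 236), (97, 4, 236), (98, 4, 236), (99, 4, 236), (100, 4, 236), (101, 4, 236), (103, 4, 236), (104, 4, 236), (105, 4, 236), (106, 4, 236), (107, 4, 236), (109, 4, 236), (114, 4, 236), (115, 4, 236), (116, 4, 236), (117, 4, 236), (118, 4, 236), (119, 4, 236), (120, 4, 236), (121, 4, 236), (122, 4, 236), (126, 4, 236), (127, 4, 236), (128, 4, 236), (129, 4, 236), (131, 4, 236), (132, 4, 236), (133, 4, 236), (134, 4, 236), (135, 4, 236), (137, 4, 236), (138, 4, 236), (139, 4, 236), (140, 4, 236), (141, 4, 236), (143, 4, 236), (144, 4, 236), (145, 4, 236), (146, 4, 236), (148, 4, 236), (149, 4, 236), (150, 4, 236), (151, 4, 236), (152, 17, 223), (156, 4, 236), (157, 4, 236), (158, 4, 236), (159, 4, 236), (160, 4, 236), (161, 4, 236), (162, 4, 236), (163, 4, 236), (165, 4, 236), (166, 4, 236), (167, 4, 236), (168, 4, 236), (170, 4, 236), (171, 4, 236), (172, 4, 236), (173, 4, 236), (174, 10, 230), (178, 4, 236), (179, 4, 236), (180, 4, 236), (181, 4, 236), (182, 4, 236), (183, 4, 236), (184, 10, 230), (188, 4, 236), (189, 4, 236), (190,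 4, 236), (191, 4, 236), (192, 4, 236), (193, 4, 236), (194, 10, 230), (195, 10, 230), (196, 10, 230), (200, 4, 236), (201, 4, 236), (202, 4, 236), (203, 4, 236), (204, 10, 230), (205, 10, 230), (206, 10, 230), (210, 4, 236), (211, 4, 236), (212, 4, 236), (213, 4, 236), (214, 10, 230), (215, 10, 230), (216, 10, 230), (218, 4, 236), (219, 10, 230), (220, 10, 230), (221, 10, 230), (223, 4, 236), (224, 10, 230), (225, 10, 230), (226, 17, 223), (227, 17, 223), (228, 17, 223), (230, 4, 236), (231, 17, 223), (232, 22, 218), (233, 17, 223), (234, 22, 218), (236, 10, 230), (237, 30, 212), (238, 31, 211), (239, 32, 210)],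
  [(0, 34, 207), (1, 33, 208), (3, 11, 229), (4, 27, 213), (5, 23, 217), (6, 18, 222), (7, 23, 217), (8, 18, 222), (9, 18, 222), (11, 3, 237), (12, 18, 222), (13, 18, 222), (14, 11, 229), (15, 11, 229), (16, 11, 229), (18, 3, 237), (19, 11, 229), (20, 11, 229), (21, 11, 229), (23, 3, 237), (24, 11, 229), (25, 11, 229), (27, 3, 237), (28, 11, 229), (29, 11, 229), (30, 3, 237), (33, 3, 237), (34, 3, 237), (35, 11, 229), (37, 3, 237), (38, 11, 229), (39, 11, 229), (40, 3, 237), (43, 3, 237), (44, 3, 237), (45, 11, 229), (46, 3, 237), (49, 3, 237), (50, 3, 237), (51, 11, 229), (52, 3, 237), (53, 3, 237), (55, 3, 237), (56, 3, 237), (59, 3, 237), (60, 3, 237), (61, 11, 229), (62, 3, 237), (63, 3, 237), (65, 3, 237), (66, 3, 237), (67, 3, 237), (69, 3, 237), (70, 3, 237), (71, 3, 237), (72, 3, 237), (74, 3, 237), (75, 3, 237), (76, 3, 237), (77, 3, 237), (78, 3, 237), (81, 3, 237), (82, 3, 237), (83, 18, 222), (84, 3, 237), (85, 3, 237), (87, 3, 237), (88, 3, 237), (89, 3, 237), (91, 3, 237), (92, 3, 237), (93, 3, 237), (94, 3, 237), (96,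 3, 237), (97, 3, 237), (98, 3, 237), (99, 3, 237), (100, 3, 237), (102, 3, 237), (103, 3, 237), (104, 3, 237), (105, 3, 237), (106, 3, 237), (108, 3, 237), (109, 3, 237), (110, 3, 237), (111, 3, 237), (113, 3, 237), (117, 3, 237), (118, 3, 237), (119, 3, 237), (120, 3, 237), (123, 3, 237), (124, 3, 237), (125, 3, 237), (127, 3, 237), (128, 3, 237), (129, 3, 237), (130, 3, 237), (132, 3, 237), (133, 3, 237), (134, 3, 237), (135, 3, 237), (136, 3, 237), (138, 3, 237), (139, 3, 237), (140, 3, 237), (141, 3, 237), (142, 3, 237), (144, 3, 237), (145, 3, 237), (146, 3, 237), (147, 3, 237), (149, 3, 237), (150, 3, 237), (151, 3, 237), (153, 3, 237), (154, 3, 237), (155, 3, 237), (156, 18, 222), (159, 3, 237), (160, 3, 237), (161, 3, 237), (162, 3, 237), (163, 3, 237), (164, 3, 237), (166, 3, 237), (167, 3, 237), (168, 3, 237), (169, 3, 237), (171, 3, 237), (172, 3, 237), (173, 3, 237), (175, 3, 237), (176, 3, 237), (177, 3, 237), (178, 11, 229), (181, 3, 237), (182, 3, 237), (183, 3, 237), (185, 3, 237), (186, 3, 237), (187, 3, 237), (188,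 11, 229), (191, 3, 237), (192, 3, 237), (193, 3, 237), (194, 11, 229), (197, 3, 237), (198, 3, 237), (199, 3, 237), (200, 11, 229), (201, 11, 229), (203, 3, 237), (204, 11, 229), (207, 3, 237), (208, 3, 237), (209, 3, 237), (210, 11, 229), (211, 11, 229), (213, 3, 237), (214, 11, 229), (215, 11, 229), (217, 3, 237), (218, 11, 229), (219, 11, 229), (220, 11, 229), (222, 3, 237), (223, 11, 229), (224, 11, 229), (225, 11, 229), (226, 18, 222), (227, 18, 222), (229, 3, 237), (230, 18, 222), (231, 18, 222), (232, 23, 217), (233, 18, 222), (234, 23, 217), (235, 27, 213), (237, 11, 229), (238, 33, 208), (239, 34, 207)],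
  [(0, 35, 205), (2, 12, 228), (3, 31, 209), (4, 28, 212), (5, 24, 216), (6, 19, 221), (7, 24, 216), (8, 19, 221), (9, 19, 221), (10, 19, 221), (12, 2, 238), (13, 19, 221), (14, 12, 228), (15, 12, 228), (16, 12, 228), (17, 12, 228), (19, 2, 238), (20, 12, 228), (21, 12, 228), (22, 12, 228), (24, 2, 238), (25, 12, 228), (26, 12, 228), (28, 2, 238), (29, 12, 228), (31, 2, 238), (32, 12, 228), (33, 2, 238), (35, 2, 238), (36, 12, 228), (38, 2, 238), (39, 12, 228), (41, 2, 238), (42, 12, 228), (43, 2, 238), (45, 2, 238), (47, 2, 238), (48, 12, 228), (49, 2, 238), (51, 2, 238), (52, 2, 238), (54, 2, 238), (55, 2, 238), (57, 2, 238), (58, 12, 228), (59, 2, 238), (61, 2, 238), (62, 2, 238), (64, 2, 238), (65, 2, 238), (66, 2, 238), (68, 2, 238), (69, 2, 238), (70, 2, 238), (71, 2, 238), (73, 2, 238), (74, 2, 238), (75, 2, 238), (76, 2, 238), (77, 2, 238), (79, 2, 238), (80, 19, 221), (81, 2, 238), (83, 2, 238), (84, 2, 238), (86, 2, 238), (87, 2, 238), (88, 2, 238), (90, 2, 238), (91, 2, 238), (92, 2, 238), (93, 2, 238), (95, 2, 238), (96,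 2, 238), (97, 2, 238), (98, 2, 238), (99, 2, 238), (101, 2, 238), (102, 2, 238), (103, 2, 238), (104, 2, 238), (105, 2, 238), (107, 2, 238), (108, 2, 238), (109, 2, 238), (110, 2, 238), (112, 2, 238), (113, 2, 238), (114, 2, 238), (116, 2, 238), (119, 2, 238), (121, 2, 238), (122, 2, 238), (124, 2, 238), (125, 2, 238), (126, 2, 238), (128, 2, 238), (129, 2, 238), (130, 2, 238), (131, 2, 238), (133, 2, 238), (134, 2, 238), (135, 2, 238), (136, 2, 238), (137, 2, 238), (139, 2, 238), (140, 2, 238), (141, 2, 238), (142, 2, 238), (143, 2, 238), (145, 2, 238), (146, 2, 238), (147, 2, 238), (148, 2, 238), (150, 2, 238), (151, 2, 238), (152, 2, 238), (154, 2, 238), (155, 2, 238), (157, 2, 238), (158, 2, 238), (159, 19, 221), (161, 2, 238), (162, 2, 238), (163, 2, 238), (164, 2, 238), (165, 2, 238), (167, 2, 238), (168, 2, 238), (169, 2, 238), (170, 2, 238), (172, 2, 238), (173, 2, 238), (174, 2, 238), (176, 2, 238), (177, 2, 238), (179, 2, 238), (180, 2, 238), (181, 12, 228), (183, 2, 238), (184, 2, 238), (186, 2, 238), (187, 2, 238), (189,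 2, 238), (190, 2, 238), (191, 12, 228), (193, 2, 238), (195, 2, 238), (196, 2, 238), (197, 12, 228), (199, 2, 238), (200, 12, 228), (202, 2, 238), (203, 12, 228), (205, 2, 238), (206, 2, 238), (207, 12, 228), (209, 2, 238), (210, 12, 228), (212, 2, 238), (213, 12, 228), (214, 12, 228), (216, 2, 238), (217, 12, 228), (218, 12, 228), (219, 12, 228), (221, 2, 238), (222, 12, 228), (223, 12, 228), (224, 12, 228), (225, 12, 228), (226, 19, 221), (228, 2, 238), (229, 19, 221), (230, 19, 221), (231, 19, 221), (232, 24, 216), (233, 19, 221), (234, 24, 216), (235, 28, 212), (236, 31, 209), (238, 12, 228), (239, 35, 205)],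
  [(1, 13, 227), (2, 34, 206), (3, 32, 208), (4, 29, 211), (5, 25, 215), (6, 20, 220), (7, 25, 215), (8, 20, 220), (9, 20, 220), (10, 20, 220), (11, 20, 220), (13, 1, 239), (14, 13, 227), (15, 13, 227), (16, 13, 227), (17, 13, 227), (18, 13, 227), (20, 1, 239), (21, 13, 227), (22, 13, 227), (23, 13, 227), (25, 1, 239), (26, 13, 227), (27, 13, 227), (29, 1, 239), (30, 13, 227), (32, 1, 239), (34, 1, 239), (35, 1, 239), (36, 13, 227), (37, 13, 227), (39, 1, 239), (40, 13, 227), (42, 1, 239), (44, 1, 239), (45, 1, 239), (46, 13, 227), (48, 1, 239), (50, 1, 239), (51, 1, 239), (53, 1, 239), (54, 1, 239), (55, 1, 239), (56, 13, 227), (58, 1, 239), (60, 1, 239), (61, 1, 239), (63, 1, 239), (64, 1, 239), (65, 1, 239), (67, 1, 239), (68, 1, 239), (69, 1, 239), (70, 1, 239), (72, 1, 239), (73, 1, 239), (74, 1, 239), (75, 1, 239), (76, 1, 239), (77, 1, 239), (78, 20, 220), (80, 1, 239), (82, 1, 239), (83, 1, 239), (85, 1, 239), (86, 1, 239), (87, 1, 239), (89, 1, 239), (90, 1, 239), (91, 1, 239), (92, 1, 239), (94, 1, 239), (95, 1, 239), (96,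 1, 239), (97, 1, 239), (98, 1, 239), (100, 1, 239), (101, 1, 239), (102, 1, 239), (103, 1, 239), (104, 1, 239), (106, 1, 239), (107, 1, 239), (108, 1, 239), (109, 1, 239), (111, 1, 239), (112, 1, 239), (113, 1, 239), (115, 1, 239), (116, 1, 239), (118, 1, 239), (120, 1, 239), (122, 1, 239), (123, 1, 239), (125, 1, 239), (126, 1, 239), (127, 1, 239), (129, 1, 239), (130, 1, 239), (131, 1, 239), (132, 1, 239), (134, 1, 239), (135, 1, 239), (136, 1, 239), (137, 1, 239), (138, 1, 239), (140, 1, 239), (141, 1, 239), (142, 1, 239), (143, 1, 239), (144, 1, 239), (146, 1, 239), (147, 1, 239), (148, 1, 239), (149, 1, 239), (151, 1, 239), (152, 1, 239), (153, 1, 239), (155, 1, 239), (156, 1, 239), (158, 1, 239), (160, 1, 239), (161, 20, 220), (162, 1, 239), (163, 1, 239), (164, 1, 239), (165, 1, 239), (166, 1, 239), (168, 1, 239), (169, 1, 239), (170, 1, 239), (171, 1, 239), (173, 1, 239), (174, 1, 239), (175, 1, 239), (177, 1, 239), (178, 1, 239), (180, 1, 239), (182, 1, 239), (183, 13, 227), (184, 1, 239), (185, 1, 239), (187, 1, 239), (188,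 1, 239), (190, 1, 239), (192, 1, 239), (193, 13, 227), (194, 1, 239), (196, 1, 239), (198, 1, 239), (199, 13, 227), (201, 1, 239), (202, 13, 227), (203, 13, 227), (204, 1, 239), (206, 1, 239), (208, 1, 239), (209, 13, 227), (211, 1, 239), (212, 13, 227), (213, 13, 227), (215, 1, 239), (216, 13, 227), (217, 13, 227), (218, 13, 227), (220, 1, 239), (221, 13, 227), (222, 13, 227), (223, 13, 227), (224, 13, 227), (225, 13, 227), (227, 1, 239), (228, 20, 220), (229, 20, 220), (230, 20, 220), (231, 20, 220), (232, 25, 215), (233, 20, 220), (234, 25, 215), (235, 29, 211), (236, 32, 208), (237, 34, 206), (239, 13, 227)]]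

/-- Decompositions of the fundamental roots, type E8. -/
def certE8 : List RootCert := [
  ⟨(14, 233, 15, 98, 231), [.move false 14 233 15 98 231,
    .move false 14 233 16 97 230,
    .move false 14 233 17 96 229,
    .move false 14 233 18 95 228,
    .move false 14 233 19 94 227,
    .move false 14 233 20 93 226,
    .move false 14 233 78 35 183,
    .move false 14 233 79 34 182,
    .move false 14 233 80 33 181,
    .move false 14 233 81 32 180,
    .move false 14 233 82 31 179,
    .move false 14 233 83 30 178,
    .move false 14 233 84 29 177,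
    .move false 14 233 85 28 176,
    .move false 14 233 86 27 175,
    .move false 14 233 87 26 174,
    .move false 14 233 88 25 173,
    .move false 14 233 89 24 172,
    .move false 14 233 90 23 171,
    .move false 14 233 91 22 170,
    .move false 14 233 92 21 169,
    .move false 14 233 163 5 104,
    .move false 14 233 164 4 103,
    .move false 14 233 165 3 102,
    .move false 14 233 166 2 101,
    .move false 14 233 167 1 100,
    .move false 14 233 168 0 99,
    .swap 14 233,
    .move false 15 231 99 25 168,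
    .move false 15 231 100 24 167,
    .move false 15 231 101 23 166,
    .move false 15 231 102 22 165,
    .move false 15 231 103 21 164,
    .move false 15 231 169 4 92,
    .move false 15 231 170 3 91,
    .move false 15 231 171 2 90,
    .move false 15 231 172 1 89,
    .move false 15 231 173 0 88,
    .swap 15 231,
    .move false 16 230 104 21 163,
    .move false 16 230 174 3 87,
    .move false 16 230 175 2 86,
    .move false 16 230 176 1 85,
    .move false 16 230 177 0 84,
    .swap 16 230,
    .move false 17 229 178 2 83,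
    .move false 17 229 179 1 82,
    .move false 17 229 180 0 81,
    .swap 17 229,
    .move false 18 228 181 1 80,
    .move false 18 228 182 0 79,
    .swap 18 228,
    .move false 19 227 183 0 78,
    .swap 19 227,
    .swap 20 226]⟩,
  ⟨(7, 234, 8, 104, 233), [.move false 7 234 8 104 233,
    .move false 7 234 15 76 225,
    .move false 7 234 36 55 213,
    .move false 7 234 37 54 212,
    .move false 7 234 38 53 211,
    .move false 7 234 39 52 210,
    .move false 7 234 40 51 209,
    .move false 7 234 41 50 208,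
    .move false 7 234 42 49 207,
    .move false 7 234 43 48 206,
    .move false 7 234 44 47 205,
    .move false 7 234 45 46 204,
    .move false 7 234 71 20 173,
    .move false 7 234 72 19 172,
    .move false 7 234 73 18 171,
    .move false 7 234 74 17 170,
    .move false 7 234 75 16 169,
    .move false 7 234 99 13 151,
    .move false 7 234 100 12 150,
    .move false 7 234 101 11 149,
    .move false 7 234 102 10 148,
    .move false 7 234 103 9 147,
    .move false 7 234 142 4 109,
    .move false 7 234 143 3 108,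
    .move false 7 234 144 2 107,
    .move false 7 234 145 1 106,
    .move false 7 234 146 0 105,
    .swap 7 234,
    .move false 8 233 105 13 146,
    .move false 8 233 106 12 145,
    .move false 8 233 107 11 144,
    .move false 8 233 108 10 143,
    .move false 8 233 109 9 142,
    .move false 8 233 147 4 103,
    .move false 8 233 148 3 102,
    .move false 8 233 149 2 101,
    .move false 8 233 150 1 100,
    .move false 8 233 151 0 99,
    .swap 8 233,
    .move false 15 225 169 4 75,
    .move false 15 225 170 3 74,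
    .move false 15 225 171 2 73,
    .move false 15 225 172 1 72,
    .move false 15 225 173 0 71,
    .swap 15 225,
    .move false 36 213 204 2 45,
    .move false 36 213 205 1 44,
    .move false 36 213 206 0 43,
    .swap 36 213,
    .move false 37 212 207 1 42,
    .move false 37 212 208 0 41,
    .swap 37 212,
    .move false 38 211 209 0 40,
    .swap 38 211,
    .swap 39 210]⟩,
  ⟨(6, 234, 8, 98, 232), [.move false 6 234 8 98 232,
    .move false 6 234 21 70 223,
    .move false 6 234 22 69 222,
    .move false 6 234 23 68 221,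
    .move false 6 234 24 67 220,
    .move false 6 234 25 66 219,
    .move false 6 234 56 35 193,
    .move false 6 234 57 34 192,
    .move false 6 234 58 33 191,
    .move false 6 234 59 32 190,
    .move false 6 234 60 31 189,
    .move false 6 234 61 30 188,
    .move false 6 234 62 29 187,
    .move false 6 234 63 28 186,
    .move false 6 234 64 27 185,
    .move false 6 234 65 26 184,
    .move false 6 234 77 14 163,
    .move false 6 234 93 13 151,
    .move false 6 234 94 12 150,
    .move false 6 234 95 11 149,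
    .move false 6 234 96 10 148,
    .move false 6 234 97 9 147,
    .move false 6 234 136 4 109,
    .move false 6 234 137 3 108,
    .move false 6 234 138 2 107,
    .move false 6 234 139 1 106,
    .move false 6 234 140 0 105,
    .swap 6 234,
    .move false 8 232 105 13 140,
    .move false 8 232 106 12 139,
    .move false 8 232 107 11 138,
    .move false 8 232 108 10 137,
    .move false 8 232 109 9 136,
    .move false 8 232 147 4 97,
    .move false 8 232 148 3 96,
    .move false 8 232 149 2 95,
    .move false 8 232 150 1 94,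
    .move false 8 232 151 0 93,
    .swap 8 232,
    .move false 21 223 163 9 77,
    .move false 21 223 184 3 65,
    .move false 21 223 185 2 64,
    .move false 21 223 186 1 63,
    .move false 21 223 187 0 62,
    .swap 21 223,
    .move false 22 222 188 2 61,
    .move false 22 222 189 1 60,
    .move false 22 222 190 0 59,
    .swap 22 222,
    .move false 23 221 191 1 58,
    .move false 23 221 192 0 57,
    .swap 23 221,
    .move false 24 220 193 0 56,
    .swap 24 220,
    .swap 25 219]⟩,
  ⟨(5, 235, 9, 92, 231), [.move false 5 235 9 92 231,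
    .move false 5 235 16 70 224,
    .move false 5 235 26 55 217,
    .move false 5 235 27 54 216,
    .move false 5 235 28 53 215,
    .move false 5 235 29 52 214,
    .move false 5 235 46 35 199,
    .move false 5 235 47 34 198,
    .move false 5 235 48 33 197,
    .move false 5 235 49 32 196,
    .move false 5 235 50 31 195,
    .move false 5 235 51 30 194,
    .move false 5 235 66 20 177,
    .move false 5 235 67 19 176,
    .move false 5 235 68 18 175,
    .move false 5 235 69 17 174,
    .move false 5 235 76 14 164,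
    .move false 5 235 88 13 155,
    .move false 5 235 89 12 154,
    .move false 5 235 90 11 153,
    .move false 5 235 91 10 152,
    .move false 5 235 98 7 142,
    .move false 5 235 104 6 136,
    .move false 5 235 131 3 113,
    .move false 5 235 132 2 112,
    .move false 5 235 133 1 111,
    .move false 5 235 134 0 110,
    .swap 5 235,
    .move false 9 231 110 13 134,
    .move false 9 231 111 12 133,
    .move false 9 231 112 11 132,
    .move false 9 231 113 10 131,
    .move false 9 231 136 7 104,
    .move false 9 231 142 6 98,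
    .move false 9 231 152 3 91,
    .move false 9 231 153 2 90,
    .move false 9 231 154 1 89,
    .move false 9 231 155 0 88,
    .swap 9 231,
    .move false 16 224 164 7 76,
    .move false 16 224 174 3 69,
    .move false 16 224 175 2 68,
    .move false 16 224 176 1 67,
    .move false 16 224 177 0 66,
    .swap 16 224,
    .move false 26 217 194 2 51,
    .move false 26 217 195 1 50,
    .move false 26 217 196 0 49,
    .swap 26 217,
    .move false 27 216 197 1 48,
    .move false 27 216 198 0 47,
    .swap 27 216,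
    .move false 28 215 199 0 46,
    .swap 28 215,
    .swap 29 214]⟩,
  ⟨(4, 236, 10, 87, 230), [.move false 4 236 10 87 230,
    .move false 4 236 17 65 223,
    .move false 4 236 22 55 218,
    .move false 4 236 30 45 212,
    .move false 4 236 31 44 211,
    .move false 4 236 32 43 210,
    .move false 4 236 40 35 202,
    .move false 4 236 41 34 201,
    .move false 4 236 42 33 200,
    .move false 4 236 52 25 190,
    .move false 4 236 53 24 189,
    .move false 4 236 54 23 188,
    .move false 4 236 62 20 180,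
    .move false 4 236 63 19 179,
    .move false 4 236 64 18 178,
    .move false 4 236 70 15 170,
    .move false 4 236 75 14 165,
    .move false 4 236 84 13 158,
    .move false 4 236 85 12 157,
    .move false 4 236 86 11 156,
    .move false 4 236 92 8 148,
    .move false 4 236 97 7 143,
    .move false 4 236 103 6 137,
    .move false 4 236 109 5 131,
    .move false 4 236 127 2 116,
    .move false 4 236 128 1 115,
    .move false 4 236 129 0 114,
    .swap 4 236,
    .move false 10 230 114 13 129,
    .move false 10 230 115 12 128,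
    .move false 10 230 116 11 127,
    .move false 10 230 131 8 109,
    .move false 10 230 137 7 103,
    .move false 10 230 143 6 97,
    .move false 10 230 148 5 92,
    .move false 10 230 156 2 86,
    .move false 10 230 157 1 85,
    .move false 10 230 158 0 84,
    .swap 10 230,
    .move false 17 223 165 7 75,
    .move false 17 223 170 5 70,
    .move false 17 223 178 2 64,
    .move false 17 223 179 1 63,
    .move false 17 223 180 0 62,
    .swap 17 223,
    .move false 22 218 188 2 54,
    .move false 22 218 189 1 53,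
    .move false 22 218 190 0 52,
    .swap 22 218,
    .move false 30 212 200 1 42,
    .move false 30 212 201 0 41,
    .swap 30 212,
    .move false 31 211 202 0 40,
    .swap 31 211,
    .swap 32 210]⟩,
  ⟨(3, 237, 11, 83, 229), [.move false 3 237 11 83 229,
    .move false 3 237 18 61 222,
    .move false 3 237 23 51 217,
    .move false 3 237 27 45 213,
    .move false 3 237 33 39 208,
    .move false 3 237 34 38 207,
    .move false 3 237 37 35 203,
    .move false 3 237 43 29 198,
    .move false 3 237 44 28 197,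
    .move false 3 237 49 25 192,
    .move false 3 237 50 24 191,
    .move false 3 237 55 21 185,
    .move false 3 237 59 20 182,
    .move false 3 237 60 19 181,
    .move false 3 237 65 16 175,
    .move false 3 237 69 15 171,
    .move false 3 237 74 14 166,
    .move false 3 237 81 13 160,
    .move false 3 237 82 12 159,
    .move false 3 237 87 9 153,
    .move false 3 237 91 8 149,
    .move false 3 237 96 7 144,
    .move false 3 237 102 6 138,
    .move false 3 237 108 5 132,
    .move false 3 237 113 4 127,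
    .move false 3 237 124 1 118,
    .move false 3 237 125 0 117,
    .swap 3 237,
    .move false 11 229 117 13 125,
    .move false 11 229 118 12 124,
    .move false 11 229 127 9 113,
    .move false 11 229 132 8 108,
    .move false 11 229 138 7 102,
    .move false 11 229 144 6 96,
    .move false 11 229 149 5 91,
    .move false 11 229 153 4 87,
    .move false 11 229 159 1 82,
    .move false 11 229 160 0 81,
    .swap 11 229,
    .move false 18 222 166 7 74,
    .move false 18 222 171 5 69,
    .move false 18 222 175 4 65,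
    .move false 18 222 181 1 60,
    .move false 18 222 182 0 59,
    .swap 18 222,
    .move false 23 217 185 4 55,
    .move false 23 217 191 1 50,
    .move false 23 217 192 0 49,
    .swap 23 217,
    .move false 27 213 197 1 44,
    .move false 27 213 198 0 43,
    .swap 27 213,
    .move false 33 208 203 0 37,
    .swap 33 208,
    .swap 34 207]⟩,
  ⟨(2, 238, 12, 80, 228), [.move false 2 238 12 80 228,
    .move false 2 238 19 58 221,
    .move false 2 238 24 48 216,
    .move false 2 238 28 42 212,
    .move false 2 238 31 39 209,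
    .move false 2 238 35 36 205,
    .move false 2 238 38 32 202,
    .move false 2 238 41 29 199,
    .move false 2 238 45 26 195,
    .move false 2 238 47 25 193,
    .move false 2 238 51 22 189,
    .move false 2 238 54 21 186,
    .move false 2 238 57 20 183,
    .move false 2 238 61 17 179,
    .move false 2 238 64 16 176,
    .move false 2 238 68 15 172,
    .move false 2 238 73 14 167,
    .move false 2 238 79 13 161,
    .move false 2 238 83 10 157,
    .move false 2 238 86 9 154,
    .move false 2 238 90 8 150,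
    .move false 2 238 95 7 145,
    .move false 2 238 101 6 139,
    .move false 2 238 107 5 133,
    .move false 2 238 112 4 128,
    .move false 2 238 116 3 124,
    .move false 2 238 122 0 119,
    .swap 2 238,
    .move false 12 228 119 13 122,
    .move false 12 228 124 10 116,
    .move false 12 228 128 9 112,
    .move false 12 228 133 8 107,
    .move false 12 228 139 7 101,
    .move false 12 228 145 6 95,
    .move false 12 228 150 5 90,
    .move false 12 228 154 4 86,
    .move false 12 228 157 3 83,
    .move false 12 228 161 0 79,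
    .swap 12 228,
    .move false 19 221 167 7 73,
    .move false 19 221 172 5 68,
    .move false 19 221 176 4 64,
    .move false 19 221 179 3 61,
    .move false 19 221 183 0 57,
    .swap 19 221,
    .move false 24 216 186 4 54,
    .move false 24 216 189 3 51,
    .move false 24 216 193 0 47,
    .swap 24 216,
    .move false 28 212 195 3 45,
    .move false 28 212 199 0 41,
    .swap 28 212,
    .move false 31 209 202 0 38,
    .swap 31 209,
    .swap 35 205]⟩,
  ⟨(1, 239, 13, 78, 227), [.move false 1 239 13 78 227,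
    .move false 1 239 20 56 220,
    .move false 1 239 25 46 215,
    .move false 1 239 29 40 211,
    .move false 1 239 32 37 208,
    .move false 1 239 34 36 206,
    .move false 1 239 39 30 201,
    .move false 1 239 42 27 198,
    .move false 1 239 44 26 196,
    .move false 1 239 48 23 192,
    .move false 1 239 50 22 190,
    .move false 1 239 53 21 187,
    .move false 1 239 58 18 182,
    .move false 1 239 60 17 180,
    .move false 1 239 63 16 177,
    .move false 1 239 67 15 173,
    .move false 1 239 72 14 168,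
    .move false 1 239 80 11 160,
    .move false 1 239 82 10 158,
    .move false 1 239 85 9 155,
    .move false 1 239 89 8 151,
    .move false 1 239 94 7 146,
    .move false 1 239 100 6 140,
    .move false 1 239 106 5 134,
    .move false 1 239 111 4 129,
    .move false 1 239 115 3 125,
    .move false 1 239 118 2 122,
    .swap 1 239,
    .move false 13 227 122 11 118,
    .move false 13 227 125 10 115,
    .move false 13 227 129 9 111,
    .move false 13 227 134 8 106,
    .move false 13 227 140 7 100,
    .move false 13 227 146 6 94,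
    .move false 13 227 151 5 89,
    .move false 13 227 155 4 85,
    .move false 13 227 158 3 82,
    .move false 13 227 160 2 80,
    .swap 13 227,
    .move false 20 220 168 7 72,
    .move false 20 220 173 5 67,
    .move false 20 220 177 4 63,
    .move false 20 220 180 3 60,
    .move false 20 220 182 2 58,
    .swap 20 220,
    .move false 25 215 187 4 53,
    .move false 25 215 190 3 50,
    .move false 25 215 192 2 48,
    .swap 25 215,
    .move false 29 211 196 3 44,
    .move false 29 211 198 2 42,
    .swap 29 211,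
    .move false 32 208 201 2 39,
    .swap 32 208,
    .swap 34 206]⟩]

open CfsgLib.Chev
theorem lacedE6 : lacedB chevE6 = true :=
  Fast.lacedB_of E6.cert.hv (range_all_spec
    (by decide +kernel : (List.range 6).all (Fast.lacedF E6.data) = true))

theorem shapeE6 : shapeB chevE6 = true :=
  Fast.shapeB_of E6.cert.hv (range_all_spec
    (by decide +kernel : (List.range 6).all (Fast.shapeF E6.data) = true))

theorem witCheckE6 : witCheck chevE6 witE6 = true :=
  Fast.witCheck_of E6.cert.hv (range_all_spec
    (by decide +kernel : ((List.range 6).all fun i => Fast.witF E6.data i (witE6.getD i [])) = true))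

theorem decompCheckE6 : decompCheck chevE6 certE6 = true :=
  Fast.decompCheck_of E6.cert.hv (range_all_spec
    (by decide +kernel : ((List.range 6).all fun i =>
      Fast.decompF E6.data i (certE6.getD i ⟨(0, 0, 0, 0, 0), []⟩)) = true))

theorem lacedE7 : lacedB chevE7 = true :=
  Fast.lacedB_of E7.cert.hv (range_all_spec
    (by decide +kernel : (List.range 7).all (Fast.lacedF E7.data) = true))

theorem shapeE7 : shapeB chevE7 = true :=
  Fast.shapeB_of E7.cert.hv (range_all_spec
    (by decide +kernel : (List.range 7).all (Fast.shapeF E7.data) = true))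

theorem witCheckE7 : witCheck chevE7 witE7 = true :=
  Fast.witCheck_of E7.cert.hv (range_all_spec
    (by decide +kernel : ((List.range 7).all fun i => Fast.witF E7.data i (witE7.getD i [])) = true))

theorem decompCheckE7 : decompCheck chevE7 certE7 = true :=
  Fast.decompCheck_of E7.cert.hv (range_all_spec
    (by decide +kernel : ((List.range 7).all fun i =>
      Fast.decompF E7.data i (certE7.getD i ⟨(0, 0, 0, 0, 0), []⟩)) = true))

theorem lacedE8 : lacedB chevE8 = true :=
  Fast.lacedB_of E8.cert.hv (range_all_spec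
    (by decide +kernel : (List.range 8).all (Fast.lacedF E8.data) = true))

theorem shapeE8 : shapeB chevE8 = true :=
  Fast.shapeB_of E8.cert.hv (range_all_spec
    (by decide +kernel : (List.range 8).all (Fast.shapeF E8.data) = true))

theorem witRowE8_0 : Fast.witF E8.data 0 (witE8.getD 0 []) = true := by decide +kernel

theorem witRowE8_1 : Fast.witF E8.data 1 (witE8.getD 1 []) = true := by decide +kernel

theorem witRowE8_2 : Fast.witF E8.data 2 (witE8.getD 2 []) = true := by decide +kernel

theorem witRowE8_3 : Fast.witF E8.data 3 (witE8.getD 3 []) = true := by decide +kernel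

theorem witRowE8_4 : Fast.witF E8.data 4 (witE8.getD 4 []) = true := by decide +kernel

theorem witRowE8_5 : Fast.witF E8.data 5 (witE8.getD 5 []) = true := by decide +kernel

theorem witRowE8_6 : Fast.witF E8.data 6 (witE8.getD 6 []) = true := by decide +kernel

theorem witRowE8_7 : Fast.witF E8.data 7 (witE8.getD 7 []) = true := by decide +kernel

theorem witCheckE8 : witCheck chevE8 witE8 = true :=
  Fast.witCheck_of E8.cert.hv fun i hi => match i, hi with
    | 0, _ => witRowE8_0
    | 1, _ => witRowE8_1
    | 2, _ => witRowE8_2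
    | 3, _ => witRowE8_3
    | 4, _ => witRowE8_4
    | 5, _ => witRowE8_5
    | 6, _ => witRowE8_6
    | 7, _ => witRowE8_7
    | k + 8, hi => absurd (show k + 8 < 8 from hi) (by omega)

theorem decompRowE8_0 : Fast.decompF E8.data 0 (certE8.getD 0 ⟨(0, 0, 0, 0, 0), []⟩) = true := by decide +kernel

theorem decompRowE8_1 : Fast.decompF E8.data 1 (certE8.getD 1 ⟨(0, 0, 0, 0, 0), []⟩) = true := by decide +kernel

theorem decompRowE8_2 : Fast.decompF E8.data 2 (certE8.getD 2 ⟨(0, 0, 0, 0, 0), []⟩) = true := by decide +kernel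

theorem decompRowE8_3 : Fast.decompF E8.data 3 (certE8.getD 3 ⟨(0, 0, 0, 0, 0), []⟩) = true := by decide +kernel

theorem decompRowE8_4 : Fast.decompF E8.data 4 (certE8.getD 4 ⟨(0, 0, 0, 0, 0), []⟩) = true := by decide +kernel

theorem decompRowE8_5 : Fast.decompF E8.data 5 (certE8.getD 5 ⟨(0, 0, 0, 0, 0), []⟩) = true := by decide +kernel

theorem decompRowE8_6 : Fast.decompF E8.data 6 (certE8.getD 6 ⟨(0, 0, 0, 0, 0), []⟩) = true := by decide +kernel

theorem decompRowE8_7 : Fast.decompF E8.data 7 (certE8.getD 7 ⟨(0, 0, 0, 0, 0), []⟩) = true := by decide +kernel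

theorem decompCheckE8 : decompCheck chevE8 certE8 = true :=
  Fast.decompCheck_of E8.cert.hv fun i hi => match i, hi with
    | 0, _ => decompRowE8_0
    | 1, _ => decompRowE8_1
    | 2, _ => decompRowE8_2
    | 3, _ => decompRowE8_3
    | 4, _ => decompRowE8_4
    | 5, _ => decompRowE8_5
    | 6, _ => decompRowE8_6
    | 7, _ => decompRowE8_7
    | k + 8, hi => absurd (show k + 8 < 8 from hi) (by omega)

end CfsgLib.ChevMult
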