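import Cfsg.Agent.Lib.ChevMult.Laced
import Cfsg.Agent.Lib.Chev.Comm

/-!
The checks for the simply laced types, evaluated on the validated fast tables.
-/

set_option autoImplicit false

namespace CfsgLib.ChevMult

open Cfsg.Lie CfsgLib.Chev

/-- The witness check. -/
def witCheck (D : ChevalleyDatum) (W : List (List (ℕ × ℕ × ℕ))) : Bool :=
  (List.finRange D.rank).all fun i => (List.range D.nroots).all fun s =>
    !freeB D (D.simple i.val) s ||
      (W.getD i.val []).any fun x => Nat.beq x.1 s && witB D i s x.2.1 x.2.2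

/-- The decomposition check. -/
def decompCheck (D : ChevalleyDatum) (Z : List RootCert) : Bool :=
  (List.finRange D.rank).all fun i => decompB D i (Z.getD i.val ⟨(0, 0, 0, 0, 0), []⟩)

namespace Fast

variable (T : Data)

/-- `freeB` on the tables. -/
def freeF (s a : ℕ) : Bool :=
  Nat.beq a s || (!Nat.beq a (T.row s).neg && (T.commFast s a).isEmpty)

/-- `singleB` on the tables. -/
def singleF (a b r : ℕ) : Bool :=
  Nat.blt a T.n && Nat.blt b T.n && Nat.blt r T.n && !Nat.beq b a &&
    !Nat.beq b (T.row a).neg && freeF T a r && freeF T b r &&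
    match T.commFast a b with
    | [(k, c, 1, 1)] => Nat.beq k r && decide (c.natAbs = 1)
    | _ => false

/-- `moveB` on the tables. -/
def moveF (r a b c d e : ℕ) : Bool :=
  singleF T a b r && singleF T c d a && singleF T d b e && singleF T c e r &&
    freeF T b c && freeF T e a

/-- `runSteps` on the tables. -/
def runF (r : ℕ) : List Step → List (ℕ × ℕ) → List (ℕ × ℕ)
  | [], known => known
  | .swap a b :: L, known =>
    if known.contains (a, b) && singleF T a b r && singleF T b a r then
      runF r L ((b, a) :: known) else []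
  | .move back a b c d e :: L, known =>
    if moveF T r a b c d e && known.contains (if back then (c, e) else (a, b)) then
      runF r L ((if back then (a, b) else (c, e)) :: known) else []

/-- The Cartan integer on the tables. -/
def carF (i x : ℕ) : ℤ := (T.row x).car.getD i 0

/-- `decompB` on the tables. -/
def decompF (i : ℕ) (Z : RootCert) : Bool :=
  match Z.start with
  | (a, b, c, d, e) =>
    moveF T (T.simp' i) a b c d e &&
    let K := runF T (T.simp' i) Z.steps [(a, b)]
    (List.range T.n).all fun x => decide (carF T i x ≠ 1) ||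
      (List.range T.n).all fun y => decide (carF T i y ≠ 1) ||
        ((List.range T.l).any fun k =>
          decide (carF T k x + carF T k y ≠ carF T k (T.simp' i))) ||
        K.contains (x, y)

/-- `lacedB` on the tables. -/
def lacedF (i : ℕ) : Bool :=
  (List.range T.n).all fun x => Nat.beq x (T.simp' i) || decide (carF T i x ≤ 1)

/-- `shapeB` on the tables. -/
def shapeF (i : ℕ) : Bool :=
  (List.range T.n).all fun s =>
    Nat.beq s (T.row (T.simp' i)).neg || freeF T (T.simp' i) s ||
      match T.commFast (T.simp' i) s with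
      | [(k, _, _, _)] => singleF T (T.simp' i) s k
      | _ => false

/-- The witness check of one fundamental root on the tables. -/
def witF (i : ℕ) (W : List (ℕ × ℕ × ℕ)) : Bool :=
  (List.range T.n).all fun s => !freeF T (T.simp' i) s ||
    W.any fun x => Nat.beq x.1 s &&
      (singleF T x.2.1 x.2.2 (T.simp' i) && freeF T s x.2.1 && freeF T s x.2.2)

variable {T} {D : ChevalleyDatum} (hv : T.Valid D)

include hv

theorem free_eq {s a : ℕ} (hs : s < T.n) (ha : a < T.n) : freeB D s a = freeF T s a := by
  rw [freeB, freeF, hv.neg_eq s hs, hv.commTerms_eq hs ha]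

theorem single_eq (a b r : ℕ) : singleB D a b r = singleF T a b r := by
  by_cases h : a < T.n ∧ b < T.n ∧ r < T.n
  · obtain ⟨ha, hb, hr⟩ := h
    have e : ∀ {x : ℕ}, x < T.n → decide (x < D.nroots) = Nat.blt x T.n := fun {x} hx => by
      rw [← hv.hn, decide_eq_true hx]
      exact (by simp [Nat.blt_eq, hx] : true = Nat.blt x T.n)
    rw [singleB, singleF, e ha, e hb, e hr, hv.neg_eq a ha, free_eq hv ha hr, free_eq hv hb hr,
      hv.commTerms_eq ha hb]
    rfl
  · have h1 : singleB D a b r = false := by
      rw [Bool.eq_false_iff]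
      intro h'
      simp only [singleB, Bool.and_eq_true, decide_eq_true_eq, ← hv.hn] at h'
      exact h ⟨h'.1.1.1.1.1.1.1, h'.1.1.1.1.1.1.2, h'.1.1.1.1.1.2⟩
    have h2 : singleF T a b r = false := by
      rw [Bool.eq_false_iff]
      intro h'
      simp only [singleF, Bool.and_eq_true, Nat.blt_eq] at h'
      exact h ⟨h'.1.1.1.1.1.1.1, h'.1.1.1.1.1.1.2, h'.1.1.1.1.1.2⟩
    rw [h1, h2]

omit hv in
theorem lt_of_single {a b r : ℕ} (h : singleF T a b r = true) : a < T.n ∧ b < T.n ∧ r < T.n := by
  simp only [singleF, Bool.and_eq_true, Nat.blt_eq] at h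
  exact ⟨h.1.1.1.1.1.1.1, h.1.1.1.1.1.1.2, h.1.1.1.1.1.2⟩

theorem move_eq (r a b c d e : ℕ) : moveB D r a b c d e = moveF T r a b c d e := by
  unfold moveB moveF
  rw [single_eq hv, single_eq hv, single_eq hv, single_eq hv]
  cases h1 : singleF T a b r
  · simp
  cases h2 : singleF T c d a
  · simp
  cases h3 : singleF T d b e
  · simp
  cases h4 : singleF T c e r
  · simp
  obtain ⟨ha, hb, -⟩ := lt_of_single h1
  obtain ⟨hc, he, -⟩ := lt_of_single h4
  rw [free_eq hv hb hc, free_eq hv he ha]

theorem run_eq (r : ℕ) : ∀ (L : List Step) (known : List (ℕ × ℕ)),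
    runSteps D r L known = runF T r L known
  | [], known => rfl
  | .swap a b :: L, known => by
    rw [runSteps, runF, single_eq hv, single_eq hv, run_eq r L]
  | .move back a b c d e :: L, known => by
    rw [runSteps, runF, move_eq hv, run_eq r L]

theorem lt_l (i : Fin D.rank) : i.val < T.l := by
  have := i.isLt
  have := hv.hl
  omega

theorem car {i x : ℕ} (hi : i < T.l) (hx : x < T.n) : D.cartan i x = carF T i x :=
  hv.car_eq x hx i hi

theorem decomp_of {i : Fin D.rank} {Z : RootCert} (h : decompF T i.val Z = true) :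
    decompB D i Z = true := by
  obtain ⟨⟨a, b, c, d, e⟩, L⟩ := Z
  have hi : i.val < T.l := lt_l hv i
  have hp := hv.simple_lt i.val hi
  simp only [decompF, Bool.and_eq_true, List.all_eq_true, List.mem_range, Bool.or_eq_true,
    decide_eq_true_eq, List.any_eq_true] at h
  obtain ⟨h1, h2⟩ := h
  simp only [decompB, Bool.and_eq_true, List.all_eq_true, List.mem_range, Bool.or_eq_true,
    decide_eq_true_eq, List.any_eq_true, List.mem_finRange, true_and]
  rw [hv.simple_eq, move_eq hv, run_eq hv]
  refine ⟨h1, fun x hx => ?_⟩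
  rw [← hv.hn] at hx
  rw [car hv hi hx]
  refine (h2 x hx).imp_right fun h3 y hy => ?_
  rw [← hv.hn] at hy
  rw [car hv hi hy]
  refine (h3 y hy).imp_left fun h4 => h4.imp_right ?_
  rintro ⟨k, hk, hne⟩
  refine ⟨⟨k, by have := hv.hl; omega⟩, ?_⟩
  rw [car hv hk hx, car hv hk hy, car hv hk hp]
  exact hne

theorem lacedB_of (h : ∀ i < T.l, lacedF T i = true) : lacedB D = true := by
  simp only [lacedB, List.all_eq_true, List.mem_range, Bool.or_eq_true, decide_eq_true_eq,
    List.mem_finRange, true_implies]
  intro i x hx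
  rw [← hv.hn] at hx
  have hi : i.val < T.l := lt_l hv i
  have h' := h i.val hi
  simp only [lacedF, List.all_eq_true, List.mem_range, Bool.or_eq_true, decide_eq_true_eq] at h'
  rw [hv.simple_eq, car hv hi hx]
  exact h' x hx

theorem shapeB_of (h : ∀ i < T.l, shapeF T i = true) : shapeB D = true := by
  simp only [shapeB, List.all_eq_true, List.mem_range, List.mem_finRange, true_implies]
  intro i s hs
  rw [← hv.hn] at hs
  have hi : i.val < T.l := lt_l hv i
  have hp := hv.simple_lt i.val hi
  have h' := h i.val hi
  simp only [shapeF, List.all_eq_true, List.mem_range] at h'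
  rw [hv.simple_eq, ← hv.neg_eq _ hp, free_eq hv hp hs, hv.commTerms_eq hp hs]
  have := h' s hs
  simp only [← single_eq hv] at this
  exact this

theorem witCheck_of {W : List (List (ℕ × ℕ × ℕ))}
    (h : ∀ i < T.l, witF T i (W.getD i []) = true) : witCheck D W = true := by
  simp only [witCheck, List.all_eq_true, List.mem_range, List.mem_finRange, true_implies]
  intro i s hs
  rw [← hv.hn] at hs
  have hi : i.val < T.l := lt_l hv i
  have hp := hv.simple_lt i.val hi
  have h' := h i.val hi
  simp only [witF, List.all_eq_true, List.mem_range] at h'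
  have hh := h' s hs
  simp only [Bool.or_eq_true, List.any_eq_true, Bool.and_eq_true] at hh ⊢
  rw [hv.simple_eq, free_eq hv hp hs]
  refine hh.imp_right ?_
  rintro ⟨x, hx, hxs, ⟨h1, h2⟩, h3⟩
  obtain ⟨ha, hb, -⟩ := lt_of_single h1
  refine ⟨x, hx, hxs, ?_⟩
  simp only [witB, Bool.and_eq_true]
  rw [hv.simple_eq, single_eq hv, free_eq hv hs ha, free_eq hv hs hb]
  exact ⟨⟨h1, h2⟩, h3⟩

theorem decompCheck_of {Z : List RootCert}
    (h : ∀ i < T.l, decompF T i (Z.getD i ⟨(0, 0, 0, 0, 0), []⟩) = true) :
    decompCheck D Z = true := by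
  simp only [decompCheck, List.all_eq_true, List.mem_finRange, true_implies]
  exact fun i => decomp_of hv (h i.val (lt_l hv i))

end Fast

end CfsgLib.ChevMult
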